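import Cfsg.Agent.Lib.Invol.BGroupSubgroups
import Cfsg.Agent.Lib.Invol.BrauerSuzuki
import Cfsg.Agent.S0205

/-!
# Simple groups whose equal-order abelian subgroups are fused by automorphisms

`Setting X`: a group `Λ` of automorphisms containing the inner ones with odd index such that abelian
subgroups of the same order are `Λ`-conjugate. This is what a simple normal subgroup of a group with
conjugate equal-order abelian subgroups carries.
-/

set_option autoImplicit false
set_option linter.style.haveILetI false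
set_option linter.unusedSectionVars false

namespace CfsgLib.BGroup

open Subgroup

universe u

variable {X : Type u} [Group X] [Finite X]

/-- A group of automorphisms fusing abelian subgroups of equal order. -/
structure Setting (X : Type u) [Group X] where
  Λ : Subgroup (MulAut X)
  inn : ∀ x : X, MulAut.conj x ∈ Λ
  fuse : ∀ A B : Subgroup X, IsMulCommutative ↥A → IsMulCommutative ↥B →
    Nat.card ↥A = Nat.card ↥B → ∃ e ∈ Λ, A.map (e : MulAut X).toMonoidHom = B
  odd_index : Odd ((MulAut.conj : X →* MulAut X).range.relIndex Λ)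
  exp_two : ∀ x : X, ∀ k : ℕ, x ^ 2 ^ k = 1 → x * x = 1

/-- The odd core of the centraliser of `u`. -/
def O (u : X) : Subgroup X :=
  (Cfsg.oddCore ↥(centralizer ({u} : Set X))).map (centralizer ({u} : Set X)).subtype

theorem O_le (u : X) : O u ≤ centralizer ({u} : Set X) := map_subtype_le _

theorem O_odd (u : X) : Odd (Nat.card (O u)) := by
  rw [O, card_map_of_injective (centralizer _).subtype_injective, ← Nat.not_even_iff_odd,
    even_iff_two_dvd]
  exact Coprime.pPrimeCore_not_dvd Nat.prime_two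

theorem O_solvable (u : X) : Group.IsSolvable (O u) :=
  Cfsg.Agent.S0205.result (O_odd u)

theorem O_normal (u : X) : ((O u).subgroupOf (centralizer ({u} : Set X))).Normal := by
  rw [O, subgroupOf, comap_map_eq_self_of_injective (centralizer _).subtype_injective]
  haveI := Coprime.pPrimeCore_characteristic (G := ↥(centralizer ({u} : Set X))) 2
  infer_instance

theorem le_O {u : X} {N : Subgroup X} (hN : N ≤ centralizer ({u} : Set X))
    (hn : (N.subgroupOf (centralizer ({u} : Set X))).Normal) (hodd : Odd (Nat.card N)) :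
    N ≤ O u := by
  haveI := hn
  rw [O, ← map_subgroupOf_eq_of_le hN]
  refine map_mono (Coprime.le_pPrimeCore_of_not_dvd Nat.prime_two ?_)
  rw [Nat.card_congr (subgroupOfEquivOfLe hN).toEquiv, ← even_iff_two_dvd]
  exact Nat.not_even_iff_odd.2 hodd

theorem conj_mem_O {u c x : X} (hc : c ∈ centralizer ({u} : Set X)) (hx : x ∈ O u) :
    c * x * c⁻¹ ∈ O u :=
  (O_normal u).conj_mem ⟨x, O_le u hx⟩ hx ⟨c, hc⟩

/-- An automorphism carries the centraliser of `u` to the centraliser of its image. -/
theorem map_centralizer (e : MulAut X) (u : X) :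
    (centralizer ({u} : Set X)).map e.toMonoidHom = centralizer ({e u} : Set X) := by
  ext y
  simp only [mem_map_equiv, mem_centralizer_singleton_iff]
  constructor
  · intro h
    have := congrArg e h
    rwa [map_mul, map_mul, MulEquiv.apply_symm_apply] at this
  · intro h
    apply e.injective
    rwa [map_mul, map_mul, MulEquiv.apply_symm_apply]

theorem map_O (e : MulAut X) (u : X) : (O u).map e.toMonoidHom = O (e u) := by
  set C := centralizer ({u} : Set X) with hC
  set C' := centralizer ({e u} : Set X) with hC'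
  have h : C.map e.toMonoidHom = C' := map_centralizer e u
  let f : C ≃* C' := (e.subgroupMap C).trans (MulEquiv.subgroupCongr h)
  unfold O Cfsg.oddCore
  rw [← Coprime.map_pPrimeCore_equiv f 2, map_map, map_map]
  rfl

theorem mem_O_map {e : MulAut X} {u x : X} (hx : x ∈ O u) : e x ∈ O (e u) :=
  map_O e u ▸ mem_map_of_mem _ hx

theorem eq_or_eq_of_mem_zpowers {u x : X} (hu : u * u = 1) (hx : x ∈ zpowers u) : x = 1 ∨ x = u := by
  obtain ⟨i, rfl⟩ := mem_zpowers_iff.1 hx
  have h2 : u ^ (2 : ℤ) = 1 := by rw [zpow_two, hu]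
  obtain ⟨j, rfl⟩ | ⟨j, rfl⟩ := Int.even_or_odd i
  · left; rw [← two_mul, zpow_mul, h2, one_zpow]
  · right; rw [zpow_add, zpow_mul, h2, one_zpow, one_mul, zpow_one]

namespace Setting

variable (hX : Setting X)
include hX

theorem invol_fuse {u v : X} (hu : orderOf u = 2) (hv : orderOf v = 2) :
    ∃ e ∈ hX.Λ, (e : MulAut X) u = v := by
  obtain ⟨e, he, hAB⟩ := hX.fuse (zpowers u) (zpowers v) inferInstance inferInstance
    (by rw [Nat.card_zpowers, Nat.card_zpowers, hu, hv])
  refine ⟨e, he, ?_⟩
  have hm : (e : MulAut X) u ∈ zpowers v := hAB ▸ mem_map_of_mem _ (mem_zpowers u)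
  refine (eq_or_eq_of_mem_zpowers (Invol.invol_mul_self hv) hm).resolve_left fun h => ?_
  exact Invol.invol_ne_one hu (e.map_eq_one_iff.1 h)

/-- Two odd abelian subgroups of equal order of the centraliser of an involution `u` are conjugate
under an element of `Λ` fixing `u`. -/
theorem fuse_cent {u : X} (hu : orderOf u = 2) {P Q : Subgroup X}
    (hP : P ≤ centralizer ({u} : Set X)) (hQ : Q ≤ centralizer ({u} : Set X))
    (hPc : IsMulCommutative P) (hQc : IsMulCommutative Q) (hPo : Odd (Nat.card P))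
    (h : Nat.card P = Nat.card Q) :
    ∃ e ∈ hX.Λ, (e : MulAut X) u = u ∧ P.map (e : MulAut X).toMonoidHom = Q := by
  have hz2 : Nat.card (zpowers u) = 2 := by rw [Nat.card_zpowers, hu]
  have key : ∀ R : Subgroup X, R ≤ centralizer ({u} : Set X) → Odd (Nat.card R) →
      IsMulCommutative R →
      R ≤ normalizer ((zpowers u : Subgroup X) : Set X) ∧
      IsMulCommutative (zpowers u ⊔ R : Subgroup X) ∧
      Nat.card (zpowers u ⊔ R : Subgroup X) = 2 * Nat.card R ∧
      ∀ x ∈ zpowers u ⊔ R, Odd (orderOf x) → x ∈ R := by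
    intro R hR hRo hRc
    have hcom : ∀ r ∈ R, r * u = u * r := fun r hr => mem_centralizer_singleton_iff.1 (hR hr)
    have hn : R ≤ normalizer ((zpowers u : Subgroup X) : Set X) := by
      intro r hr
      rw [mem_normalizer_iff]
      intro x
      have hc : ∀ y ∈ zpowers u, r * y * r⁻¹ = y := fun y hy => by
        obtain ⟨i, rfl⟩ := mem_zpowers_iff.1 hy
        rw [((show Commute r u from hcom r hr).zpow_right i).eq, mul_inv_cancel_right]
      refine ⟨fun hx => (hc x hx).symm ▸ hx, fun hx => ?_⟩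
      have h1 := hc _ hx
      have h2 : r * x * r⁻¹ = x := mul_left_cancel (a := r) (mul_right_cancel (b := r⁻¹) h1)
      exact h2 ▸ hx
    have hinf : zpowers u ⊓ R = ⊥ := by
      refine inf_eq_bot_of_coprime ?_
      rw [hz2]
      exact Nat.coprime_two_left.2 hRo
    refine ⟨hn, ?_, ?_, ?_⟩
    · refine ⟨⟨fun x y => Subtype.ext ?_⟩⟩
      obtain ⟨a, ha, b, hb, hab⟩ := Invol.mem_sup_of_normalizing hn x.2
      obtain ⟨c, hc, d, hd, hcd⟩ := Invol.mem_sup_of_normalizing hn y.2
      obtain ⟨i, rfl⟩ := mem_zpowers_iff.1 ha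
      obtain ⟨j, rfl⟩ := mem_zpowers_iff.1 hc
      show (x : X) * y = y * x
      rw [← hab, ← hcd]
      have hbd : Commute b d := congrArg Subtype.val (hRc.is_comm.comm ⟨b, hb⟩ ⟨d, hd⟩)
      have hub : Commute u b := (hcom b hb).symm
      have hud : Commute u d := (hcom d hd).symm
      exact Commute.mul_left
        (((Commute.refl u).zpow_zpow i j).mul_right (hud.zpow_left i))
        ((hub.symm.zpow_right j).mul_right hbd)
    · rw [Invol.card_sup_of_commute hn hinf, hz2]
    · intro x hx hxo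
      obtain ⟨a, ha, b, hb, rfl⟩ := Invol.mem_sup_of_normalizing hn hx
      rcases eq_or_eq_of_mem_zpowers (Invol.invol_mul_self hu) ha with rfl | rfl
      · rwa [one_mul]
      · have hbo : Odd (orderOf b) := hRo.of_dvd_nat (Subgroup.orderOf_dvd_natCard R hb)
        rw [(show Commute a b from (hcom b hb).symm).orderOf_mul_eq_mul_orderOf_of_coprime
          (by rw [hu]; exact Nat.coprime_two_left.2 hbo), hu] at hxo
        exact absurd hxo (Nat.not_odd_iff_even.2 (even_two_mul _))
  have hQo : Odd (Nat.card Q) := h ▸ hPo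
  obtain ⟨-, hAc, hAn, -⟩ := key P hP hPo hPc
  obtain ⟨-, hBc, hBn, hBo⟩ := key Q hQ hQo hQc
  obtain ⟨e, he, hAB⟩ := hX.fuse _ _ hAc hBc (by rw [hAn, hBn, h])
  have hPQ : P.map (e : MulAut X).toMonoidHom ≤ Q := by
    rintro _ ⟨x, hx, rfl⟩
    refine hBo _ (hAB ▸ mem_map_of_mem _ (mem_sup_right hx)) ?_
    show Odd (orderOf (e x))
    rw [MulEquiv.orderOf_eq]
    exact hPo.of_dvd_nat (Subgroup.orderOf_dvd_natCard P hx)
  refine ⟨e, he, ?_, eq_of_le_of_card_ge hPQ ?_⟩
  · have hm : (e : MulAut X) u ∈ zpowers u ⊔ Q :=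
      hAB ▸ mem_map_of_mem _ (mem_sup_left (mem_zpowers u))
    obtain ⟨a, ha, b, hb, hab⟩ :=
      Invol.mem_sup_of_normalizing (key Q hQ hQo hQc).1 hm
    have ho : orderOf (e u) = 2 := by rw [MulEquiv.orderOf_eq, hu]
    have hbo : Odd (orderOf b) := hQo.of_dvd_nat (Subgroup.orderOf_dvd_natCard Q hb)
    rcases eq_or_eq_of_mem_zpowers (Invol.invol_mul_self hu) ha with rfl | rfl
    · rw [one_mul] at hab
      rw [hab, ho] at hbo
      exact absurd hbo (by decide)
    · rw [← hab, (show Commute a b from (mem_centralizer_singleton_iff.1 (hQ hb)).symm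
        ).orderOf_mul_eq_mul_orderOf_of_coprime (by rw [hu]; exact Nat.coprime_two_left.2 hbo),
        hu] at ho
      have hb1 : b = 1 := orderOf_eq_one_iff.1 (by omega)
      rw [← hab, hb1, mul_one]
  · rw [card_map_of_injective (MulEquiv.injective e), h]

/-- An element of the centraliser of `v` whose order occurs in some `O u` lies in `O v`. -/
theorem mem_O_of_orderOf {u v x y : X} (hu : orderOf u = 2) (hv : orderOf v = 2) (hx : x ∈ O u)
    (hy : y ∈ centralizer ({v} : Set X)) (h : orderOf y = orderOf x) : y ∈ O v := by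
  obtain ⟨e, he, rfl⟩ := hX.invol_fuse hu hv
  have hx' : e x ∈ O (e u) := mem_O_map hx
  obtain ⟨f, -, hf, hPQ⟩ := hX.fuse_cent hv
    (zpowers_le.2 (O_le _ hx')) (zpowers_le.2 hy) inferInstance inferInstance
    (by
      rw [Nat.card_zpowers]
      exact (O_odd _).of_dvd_nat (Subgroup.orderOf_dvd_natCard _ hx'))
    (by rw [Nat.card_zpowers, Nat.card_zpowers, MulEquiv.orderOf_eq, h])
  have hy' : y ∈ (zpowers (e x)).map (f : MulAut X).toMonoidHom := hPQ ▸ mem_zpowers y
  obtain ⟨z, hz, rfl⟩ := hy'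
  have h2 := mem_O_map (e := f) (zpowers_le.2 hx' hz)
  rwa [hf] at h2

/-- Balance. -/
theorem balance {u v : X} (hu : orderOf u = 2) (hv : orderOf v = 2) :
    O u ⊓ centralizer ({v} : Set X) ≤ O v :=
  fun _ hx => hX.mem_O_of_orderOf hu hv hx.1 hx.2 rfl

/-- If some subgroup is elementary of order `r²`, all `r`-elements have order dividing `r`. -/
theorem exponent_of_elementary {r : ℕ} (hr : r.Prime) {E : Subgroup X} (hEc : IsMulCommutative E)
    (hEn : Nat.card E = r ^ 2) (hEe : ∀ x ∈ E, x ^ r = 1) {x : X} {k : ℕ} (hx : x ^ r ^ k = 1) :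
    x ^ r = 1 := by
  haveI := Fact.mk hr
  by_contra hne
  obtain ⟨j, hjk, hj⟩ := (Nat.dvd_prime_pow hr).1 (orderOf_dvd_of_pow_eq_one hx)
  have h2 : 2 ≤ j := by
    by_contra hlt
    refine hne (orderOf_dvd_iff_pow_eq_one.1 ?_)
    rw [hj]
    exact (pow_dvd_pow r (show j ≤ 1 by omega)).trans (by rw [pow_one])
  set a := x ^ r ^ (j - 2) with ha
  have hao : orderOf a = r ^ 2 := by
    rw [ha, orderOf_pow_of_dvd (pow_ne_zero _ hr.ne_zero) (hj ▸ pow_dvd_pow r (Nat.sub_le j 2)),
      hj, Nat.pow_div (Nat.sub_le j 2) hr.pos, Nat.sub_sub_self h2]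
  obtain ⟨e, -, hg⟩ := hX.fuse E (zpowers a) hEc inferInstance
    (by rw [hEn, Nat.card_zpowers, hao])
  obtain ⟨y, hy, hya⟩ := hg ▸ mem_zpowers a
  have h3 : a ^ r = 1 := by rw [← hya, ← map_pow, hEe y hy, map_one]
  have h4 := Nat.le_of_dvd hr.pos (hao ▸ orderOf_dvd_of_pow_eq_one h3)
  have := hr.two_le
  nlinarith

/-- A subgroup of odd prime power order with an element of order `r²` somewhere is cyclic. -/
theorem isCyclic_of_sq {r : ℕ} [Fact r.Prime] (hr2 : r ≠ 2) {P : Subgroup X} (hP : IsPGroup r P)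
    {a : X} (ha : orderOf a = r ^ 2) : IsCyclic P := by
  refine Coprime.isCyclic_of_unique_odd hr2 hP ?_
  by_contra hu
  obtain ⟨E, hEc, hEn, hEe, -⟩ := Invol.exists_elementary_card_sq hP hu
  have h := hX.exponent_of_elementary (Fact.out : r.Prime) hEc hEn hEe
    (x := a) (k := 2) (by rw [← ha, pow_orderOf_eq_one])
  have h4 := Nat.le_of_dvd (Fact.out : r.Prime).pos (ha ▸ orderOf_dvd_of_pow_eq_one h)
  have := (Fact.out : r.Prime).two_le
  nlinarith

end Setting

/-- A nonabelian simple group has a four subgroup. -/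
theorem exists_klein [IsSimpleGroup X] (hna : ∃ a b : X, a * b ≠ b * a) :
    ∃ E : Subgroup X, IsKleinFour E := by
  by_contra h
  push Not at h
  have heven : Even (Nat.card X) := by
    by_contra hodd
    haveI := Cfsg.Agent.S0205.result (Nat.not_even_iff_odd.1 hodd)
    obtain ⟨a, b, hab⟩ := hna
    exact hab (IsSimpleGroup.comm_iff_isSolvable.2 inferInstance a b)
  obtain ⟨z, hz, hzc⟩ := Invol.exists_zcentral_of_no_klein heven h
  obtain ⟨a, b, hab⟩ := hna
  have hbot : Cfsg.oddCore X = ⊥ := by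
    haveI := Coprime.pPrimeCore_characteristic (G := X) 2
    rcases IsSimpleGroup.eq_bot_or_eq_top_of_normal (Cfsg.pPrimeCore 2 X) inferInstance with h1 | h1
    · exact h1
    exfalso
    have := Coprime.pPrimeCore_not_dvd (G := X) Nat.prime_two
    rw [show Cfsg.pPrimeCore 2 X = ⊤ from h1, Subgroup.card_top] at this
    exact this heven.two_dvd
  have hzc' : z ∈ center X := by
    rw [mem_center_iff]
    intro g
    have h2 := hzc g
    rw [show Cfsg.pPrimeCore 2 X = ⊥ from hbot, mem_bot] at h2
    exact (mul_inv_eq_iff_eq_mul.1 (mul_inv_eq_one.1 h2)).symm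
  rcases IsSimpleGroup.eq_bot_or_eq_top_of_normal (center X) inferInstance with h1 | h1
  · exact Invol.invol_ne_one hz (mem_bot.1 (h1 ▸ hzc'))
  · exact hab (by rw [(mem_center_iff.1 (h1.symm ▸ mem_top a : a ∈ center X) b)])

end CfsgLib.BGroup
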