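import Cfsg.Prelude.Def_Spor_J1
import Cfsg.Prelude.Def_CaseTheorems
import Cfsg.Agent.Lib.Coprime.Core
import Mathlib.LinearAlgebra.Matrix.ProjectiveSpecialLinearGroup
import Mathlib.GroupTheory.Sylow

/-!
# Groups in which abelian subgroups of equal order are conjugate: the interface
-/

set_option autoImplicit false
set_option linter.unusedSectionVars false

namespace CfsgLib.BGroup

open Subgroup

universe u

variable {G : Type u} [Group G] [Finite G]

/-- A non-abelian simple normal subgroup of a group in which abelian subgroups of equal order are conjugate. -/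
structure Hyp (G : Type u) [Group G] [Finite G] (M : Subgroup G) : Prop where
  conj : ∀ A B : Subgroup G, IsMulCommutative A → IsMulCommutative B → Nat.card A = Nat.card B →
    ∃ g : G, B = A.map (MulAut.conj g).toMonoidHom
  normal : M.Normal
  simple : IsSimpleGroup M
  noncomm : ¬ IsMulCommutative M

/-- The groups allowed. -/
def Concl (M : Type u) [Group M] : Prop :=
  (∃ (F : Type) (_ : Field F) (_ : Fintype F),
      (Fintype.card F = 2 ^ 2 ∨ Fintype.card F = 2 ^ 3 ∨ Fintype.card F = 2 ^ 5) ∧
      Nonempty (M ≃* Matrix.SpecialLinearGroup (Fin 2) F)) ∨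
    (∃ (F : Type) (_ : Field F) (_ : Fintype F), 5 ≤ Fintype.card F ∧
        (Fintype.card F % 8 = 3 ∨ Fintype.card F % 8 = 5) ∧
        Nonempty (M ≃* Matrix.ProjectiveSpecialLinearGroup (Fin 2) F)) ∨
    Cfsg.Spor.IsoJ1 M

/-- The remaining configuration: Sylow `2`-subgroups elementary abelian of order eight, non-solvable
centralizers of involutions, all of them with trivial core. -/
structure Config (G : Type u) [Group G] [Finite G] (M : Subgroup G) : Prop where
  hyp : Hyp G M
  invol_mem : ∀ x : G, orderOf x = 2 → x ∈ M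
  sylow_card : ∀ S : Sylow 2 M, Nat.card (S : Subgroup M) = 8
  sylow_sq : ∀ S : Sylow 2 M, ∀ x ∈ (S : Subgroup M), x * x = 1
  nonsolvable : ∀ t : M, orderOf t = 2 → ¬ Group.IsSolvable (centralizer ({t} : Set M))
  core : ∀ t : M, orderOf t = 2 → Cfsg.oddCore ↥(centralizer ({t} : Set M)) = ⊥

end CfsgLib.BGroup
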