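import Cfsg.Agent.Lib.BGroup.Basic
import Cfsg.Agent.Lib.SU.UnitalModel
import Cfsg.Agent.S0217
import Cfsg.Agent.S1221
import Cfsg.Agent.S0222
import Cfsg.Agent.Lib.Invol.StronglyEmbedded
import Cfsg.Agent.Lib.Invol.OddCore
import Cfsg.Agent.Lib.PGroup.CyclicSylowTools

/-!
# Killing the odd cores; the case of solvable centralisers
-/

set_option autoImplicit false
set_option linter.style.haveILetI false
set_option linter.unusedSectionVars false

namespace CfsgLib.BGroup

open Subgroup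

universe u

variable {X : Type u} [Group X] [Finite X]

/-- A subgroup containing the abelian Sylow 2-subgroup, its normaliser and the centralisers of its
involutions is strongly embedded if proper. -/
theorem stronglyEmbedded_of_cent (S : Sylow 2 X) (hS : IsMulCommutative (S : Subgroup X))
    (hexp : ∀ x ∈ (S : Subgroup X), x * x = 1)
    (hne : (S : Subgroup X) ≠ ⊥) {H : Subgroup X} (hH : H ≠ ⊤)
    (hN : normalizer ((S : Subgroup X) : Set X) ≤ H)
    (hC : ∀ a ∈ (S : Subgroup X), a ≠ 1 → centralizer ({a} : Set X) ≤ H) :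
    Cfsg.IsStronglyEmbedded H := by
  haveI : Fact (Nat.Prime 2) := ⟨Nat.prime_two⟩
  have hSH : (S : Subgroup X) ≤ H := le_normalizer.trans hN
  obtain ⟨a₀, ha₀, ha₀1⟩ := (bot_or_exists_ne_one (S : Subgroup X)).resolve_left hne
  have heven : Even (Nat.card H) := Invol.even_card_of_invol_mem (hSH ha₀)
    (Invol.invol_iff.2 ⟨hexp a₀ ha₀, ha₀1⟩)
  rw [Invol.stronglyEmbedded_iff hH heven]
  intro t ht hto g hg
  have key : ∀ v : X, v ∈ H → orderOf v = 2 →
      ∃ h ∈ H, h * v * h⁻¹ ∈ (S : Subgroup X) := by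
    intro v hv hvo
    have hQ : IsPGroup 2 (zpowers (⟨v, hv⟩ : H)) :=
      IsPGroup.of_card (n := 1) (by rw [Nat.card_zpowers, ← Subgroup.orderOf_coe, pow_one]; exact hvo)
    obtain ⟨h, hh⟩ := Invol.exists_conj_le_sylow hQ (S.subtype hSH)
    exact ⟨h, h.2, hh _ (mem_zpowers _)⟩
  obtain ⟨h₁, hh₁, hs₁⟩ := key t ht hto
  obtain ⟨h₂, hh₂, hs₂⟩ := key _ hg (Invol.invol_conj hto g)
  set a := h₁ * t * h₁⁻¹ with ha
  set g' := h₂ * g * h₁⁻¹ with hg'
  have hb : g' * a * g'⁻¹ = h₂ * (g * t * g⁻¹) * h₂⁻¹ := by rw [hg', ha]; group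
  have ha1 : a ≠ 1 := Invol.invol_ne_one (Invol.invol_conj hto h₁)
  have hcs : ∀ x ∈ (S : Subgroup X), x ∈ centralizer ((S : Subgroup X) : Set X) := fun x hx =>
    mem_centralizer_iff.2 fun y hy =>
      congrArg Subtype.val (hS.is_comm.comm (⟨y, hy⟩ : (S : Subgroup X)) ⟨x, hx⟩)
  obtain ⟨n, hn, hna⟩ := S.conj_eq_normalizer_conj_of_mem_centralizer a g'⁻¹ (hcs a hs₁) (by
    rw [inv_inv]; exact hcs _ (hb ▸ hs₂))
  rw [inv_inv] at hna
  have hc : n * g' ∈ H := hC a hs₁ ha1 (mem_centralizer_singleton_iff.2 (by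
    calc n * g' * a = n * (g' * a * g'⁻¹) * g' := by group
      _ = n * (n⁻¹ * a * n) * g' := by rw [hna]
      _ = a * (n * g') := by group))
  have hg'H : g' ∈ H := by
    rw [show g' = n⁻¹ * (n * g') by group]
    exact mul_mem (inv_mem (hN hn)) hc
  rw [show g = h₂⁻¹ * g' * h₁ by rw [hg']; group]
  exact mul_mem (mul_mem (inv_mem hh₂) hg'H) hh₁

/-- A simple group with a strongly embedded subgroup and a Sylow 2-subgroup of order at most 32. -/
theorem psl_of_se [IsSimpleGroup X] {H : Subgroup X} (hse : Cfsg.IsStronglyEmbedded H) (S : Sylow 2 X)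
    (h32 : Nat.card (S : Subgroup X) ≤ 32) :
    ∃ (F : Type) (_ : Field F) (_ : Fintype F), Fintype.card F = Nat.card (S : Subgroup X) ∧
      Nonempty (X ≃* Matrix.ProjectiveSpecialLinearGroup (Fin 2) F) := by
  haveI : Fact (Nat.Prime 2) := ⟨Nat.prime_two⟩
  rcases Bender.Suzuki.families_of_se Bender.Suzuki.classified hse with
    ⟨F, i1, i2, ⟨m, hm, hF⟩, ⟨e⟩⟩ | ⟨-, m, hm, hc⟩ | ⟨F, i1, i2, m, hm, hF, ⟨e⟩⟩
  · refine ⟨F, i1, i2, ?_, ⟨e⟩⟩
    haveI := Bender.Suzuki.charTwo_of_card hF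
    have h := Classical.card_psl2 (F := F)
    rw [hF, show Nat.gcd 2 (2 ^ m - 1) = 1 from by
      refine Nat.Coprime.gcd_eq_one (Nat.coprime_two_left.2 ?_)
      exact Nat.Even.sub_odd (Nat.one_le_two_pow) (Nat.even_pow.2 ⟨even_two, by omega⟩) odd_one] at h
    have hodd : Odd (((2 : ℕ) ^ m) ^ 2 - 1) := Nat.Even.sub_odd (Nat.one_le_pow _ _ (by positivity))
      ((Nat.even_pow.2 ⟨even_two, by omega⟩).pow_of_ne_zero two_ne_zero) odd_one
    have hX : Nat.card X = 2 ^ m * (((2 : ℕ) ^ m) ^ 2 - 1) := by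
      rw [Nat.card_congr e.toEquiv]
      rw [one_mul] at h
      rw [h, show ((2 : ℕ) ^ m) ^ 2 - 1 = (2 ^ m - 1) * (2 ^ m + 1) by
        rw [mul_comm, ← Nat.sq_sub_sq]]
    rw [hF, SU.card_sylow_two hX hodd S]
  · exfalso
    set q := (2 : ℕ) ^ (2 * m + 1) with hq
    have hqe : Even q := Nat.even_pow.2 ⟨even_two, by omega⟩
    have hodd : Odd ((q ^ 2 + 1) * (q - 1)) :=
      ((hqe.pow_of_ne_zero two_ne_zero).add_one).mul
        (Nat.Even.sub_odd (Nat.one_le_two_pow) hqe odd_one)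
    have := SU.card_sylow_two (k := (2 * m + 1) * 2) (by rw [hc, pow_mul, mul_assoc]) hodd S
    have h6 : 2 ^ 6 ≤ 2 ^ ((2 * m + 1) * 2) := Nat.pow_le_pow_right two_pos (by omega)
    omega
  · exfalso
    haveI : CharP F 2 := Bender.Suzuki.charTwo_of_card (n := m * 2) (by rw [hF, pow_mul])
    obtain ⟨U, -⟩ := SU.unital_sylow_psu (by omega) hF
      (S.mapSurjective (f := e.toMonoidHom) e.surjective)
    have h1 := U.card_eq (q := 2 ^ m) (by rw [Nat.card_eq_fintype_card, hF])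
    have h0 : Nat.card ((S : Subgroup X).map e.toMonoidHom) = (2 ^ m) ^ 3 := h1
    rw [card_map_of_injective (f := e.toMonoidHom) e.injective, ← pow_mul] at h0
    have h6 : 2 ^ 6 ≤ 2 ^ (m * 3) := Nat.pow_le_pow_right two_pos (by omega)
    omega

section

variable [IsSimpleGroup X] (S : Sylow 2 X) (hS : Cfsg.IsElementaryAbelian 2 (S : Subgroup X))
  (h8 : 8 ≤ Nat.card (S : Subgroup X))
  (hbal : ∀ a ∈ (S : Subgroup X), a ≠ 1 → ∀ b ∈ (S : Subgroup X), b ≠ 1 →
    O a ⊓ centralizer ({b} : Set X) ≤ O b)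

/-- The subgroup generated by the odd cores of the centralisers of the involutions of `S`. -/
def sig : Subgroup X := ⨆ a : {a : X // a ∈ (S : Subgroup X) ∧ a ≠ 1}, O (a : X)

theorem O_le_sig {a : X} (ha : a ∈ (S : Subgroup X)) (ha1 : a ≠ 1) : O a ≤ sig S :=
  le_iSup (fun b : {a : X // a ∈ (S : Subgroup X) ∧ a ≠ 1} => O (b : X)) ⟨a, ha, ha1⟩

include hS h8 hbal

theorem sig_facts : ¬ 2 ∣ Nat.card (sig S) ∧
    ∀ a ∈ (S : Subgroup X), a ≠ 1 → sig S ⊓ centralizer ({a} : Set X) = O a := by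
  haveI : Fact (Nat.Prime 2) := ⟨Nat.prime_two⟩
  refine Cfsg.Agent.S0217.result (S : Subgroup X) ?_ hS.2 (by norm_num; exact h8) O
    (fun a _ _ => O_le a) (fun a _ _ => ?_) (fun a ha _ b hb x hx => ?_) (fun a _ _ => O_solvable a) hbal
  · exact fun a ha b hb => congrArg Subtype.val (hS.1.is_comm.comm (⟨a, ha⟩ : (S : Subgroup X)) ⟨b, hb⟩)
  · rw [← even_iff_two_dvd]; exact Nat.not_even_iff_odd.2 (O_odd a)
  · exact conj_mem_O (mem_centralizer_singleton_iff.2
      (congrArg Subtype.val (hS.1.is_comm.comm (⟨b, hb⟩ : (S : Subgroup X)) ⟨a, ha⟩))) hx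

theorem normalizer_le_sig :
    normalizer ((S : Subgroup X) : Set X) ≤ normalizer (sig S : Set X) := by
  haveI : Fact (Nat.Prime 2) := ⟨Nat.prime_two⟩
  intro g hg
  refine mem_normalizer_iff.2 fun x => ?_
  have key : ∀ g ∈ normalizer ((S : Subgroup X) : Set X), (sig S).map (MulAut.conj g).toMonoidHom ≤ sig S := by
    intro g hg
    rw [sig, Subgroup.map_iSup]
    refine iSup_le fun a => ?_
    rw [map_O]
    exact O_le_sig S ((mem_normalizer_iff.1 hg _).1 a.2.1) fun h => a.2.2 ((MulAut.conj g).map_eq_one_iff.1 h)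
  refine ⟨fun hx => key g hg (mem_map_of_mem _ hx), fun hx => ?_⟩
  have := key g⁻¹ (inv_mem hg) (mem_map_of_mem _ hx)
  rwa [show (MulAut.conj g⁻¹).toMonoidHom (g * x * g⁻¹) = x by
    show g⁻¹ * (g * x * g⁻¹) * g⁻¹⁻¹ = x
    group] at this

/-- If the centralisers normalise the signaliser then the odd cores are trivial. -/
theorem O_eq_bot (hC : ∀ a ∈ (S : Subgroup X), a ≠ 1 →
    centralizer ({a} : Set X) ≤ normalizer (sig S : Set X)) {a : X} (ha : a ∈ (S : Subgroup X))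
    (ha1 : a ≠ 1) : O a = ⊥ := by
  haveI : Fact (Nat.Prime 2) := ⟨Nat.prime_two⟩
  have hodd := (sig_facts S hS h8 hbal).1
  have htwo : 2 ∣ Nat.card X := by
    have := Invol.even_card_of_invol_mem ha (Invol.invol_iff.2 ⟨by rw [← sq]; exact hS.2 a ha, ha1⟩)
    exact this.two_dvd.trans (Subgroup.card_subgroup_dvd_card _)
  suffices sig S = ⊥ from le_bot_iff.1 (this ▸ O_le_sig S ha ha1)
  by_contra hne
  set H := normalizer (sig S : Set X) with hHdef
  have hHtop : H ≠ ⊤ := by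
    intro h
    haveI : (sig S).Normal := normalizer_eq_top_iff.1 h
    rcases IsSimpleGroup.eq_bot_or_eq_top_of_normal (sig S) inferInstance with h1 | h1
    · exact hne h1
    · rw [h1, Subgroup.card_top] at hodd; exact hodd htwo
  have hse : Cfsg.IsStronglyEmbedded H := stronglyEmbedded_of_cent S hS.1
    (fun x hx => by rw [← sq]; exact hS.2 x hx)
    (fun h => by rw [h, Subgroup.card_bot] at h8; omega) hHtop (normalizer_le_sig S hS h8 hbal) hC
  have hcore : Cfsg.oddCore X = ⊥ := by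
    haveI := Coprime.pPrimeCore_characteristic (G := X) 2
    rcases IsSimpleGroup.eq_bot_or_eq_top_of_normal (Cfsg.pPrimeCore 2 X) inferInstance with h1 | h1
    · exact h1
    exfalso
    have := Coprime.pPrimeCore_not_dvd (G := X) Nat.prime_two
    rw [h1, Subgroup.card_top] at this
    exact this htwo
  refine hne (le_bot_iff.1 ?_)
  rw [← hcore]
  refine le_trans ?_ (Cfsg.Agent.S1221.result H hse)
  rw [← map_subgroupOf_eq_of_le (le_normalizer : sig S ≤ H)]
  refine map_mono ?_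
  haveI : ((sig S).subgroupOf H).Normal := normal_subgroupOf_of_le_normalizer le_rfl
  refine Coprime.le_pPrimeCore_of_not_dvd Nat.prime_two ?_
  rwa [Nat.card_congr (subgroupOfEquivOfLe (le_normalizer : sig S ≤ H)).toEquiv]

end

variable [IsSimpleGroup X]

/-- A simple group with elementary Sylow 2-subgroup of order `2 ^ n`, `3 ≤ n ≤ 5`, and solvable
involution centralisers. -/
theorem solvable_case (hna : ∃ a b : X, a * b ≠ b * a) (S : Sylow 2 X)
    (hS : Cfsg.IsElementaryAbelian 2 (S : Subgroup X)) {n : ℕ} (hn3 : 3 ≤ n) (hn5 : n ≤ 5)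
    (hcard : Nat.card (S : Subgroup X) = 2 ^ n)
    (hsol : ∀ a ∈ (S : Subgroup X), a ≠ 1 → Group.IsSolvable ↥(centralizer ({a} : Set X))) :
    (∃ (F : Type) (_ : Field F) (_ : Fintype F), Fintype.card F = 2 ^ n ∧
      Nonempty (X ≃* Matrix.ProjectiveSpecialLinearGroup (Fin 2) F)) ∧
    centralizer ((S : Subgroup X) : Set X) = (S : Subgroup X) := by
  haveI : Fact (Nat.Prime 2) := ⟨Nat.prime_two⟩
  have h8 : 8 ≤ Nat.card (S : Subgroup X) := by
    rw [hcard]; exact (show (8 : ℕ) = 2 ^ 3 by norm_num).le.trans (Nat.pow_le_pow_right two_pos hn3)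
  have hcomm : ∀ x ∈ (S : Subgroup X), ∀ y ∈ (S : Subgroup X), x * y = y * x := fun x hx y hy =>
    congrArg Subtype.val (hS.1.is_comm.comm (⟨x, hx⟩ : (S : Subgroup X)) ⟨y, hy⟩)
  have hSC : ∀ a ∈ (S : Subgroup X), (S : Subgroup X) ≤ centralizer ({a} : Set X) := fun a ha x hx =>
    mem_centralizer_singleton_iff.2 (hcomm x hx a ha)
  -- in a solvable centraliser the Sylow subgroup is normal modulo the odd core, and self-centralising
  have hloc : ∀ b ∈ (S : Subgroup X), b ≠ 1 →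
      (∀ c ∈ centralizer ({b} : Set X), ∀ s ∈ (S : Subgroup X), c * s * c⁻¹ ∈ (S : Subgroup X) ⊔ O b) ∧
      (∀ c ∈ centralizer ({b} : Set X), (∀ s ∈ (S : Subgroup X), c * s * c⁻¹ * s⁻¹ ∈ O b) →
        Odd (orderOf c) → c ∈ O b) := by
    intro b hb hb1
    haveI := hsol b hb hb1
    set C := centralizer ({b} : Set X) with hC
    set S' := S.subtype (hSC b hb)
    have hS'c : IsMulCommutative (S' : Subgroup C) :=
      ⟨⟨fun x y => Subtype.ext (Subtype.ext (hcomm _ x.2 _ y.2))⟩⟩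
    have hnorm := Coprime.sylow_sup_pPrimeCore_normal S' hS'c
    have hmap : ((S' : Subgroup C) ⊔ Cfsg.pPrimeCore 2 C).map C.subtype = (S : Subgroup X) ⊔ O b := by
      rw [Subgroup.map_sup, Sylow.coe_subtype, map_subgroupOf_eq_of_le (hSC b hb)]
      rfl
    refine ⟨fun c hc s hs => ?_, fun c hc hcs hco => ?_⟩
    · rw [← hmap]
      exact ⟨_, hnorm.conj_mem (⟨s, hSC b hb hs⟩ : C) (mem_sup_left hs) ⟨c, hc⟩, rfl⟩
    · haveI := Coprime.pPrimeCore_characteristic (G := C) 2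
      set N := Cfsg.pPrimeCore 2 C with hN
      set π := QuotientGroup.mk' N with hπ
      haveI : Group.IsSolvable (C ⧸ N) :=
        Group.isSolvable_of_surjective (QuotientGroup.mk'_surjective N)
      set Q := S'.mapSurjective (QuotientGroup.mk'_surjective N)
      have hcent : π ⟨c, hc⟩ ∈ centralizer (Cfsg.pCore 2 (C ⧸ N) : Set (C ⧸ N)) := by
        refine mem_centralizer_iff.2 fun y hy => ?_
        obtain ⟨s, hs, rfl⟩ := Coprime.pCore_le_sylow Q hy
        rw [← map_mul, ← map_mul, eq_comm, hπ, QuotientGroup.mk'_apply, QuotientGroup.mk'_apply,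
          QuotientGroup.eq]
        obtain ⟨m, hm, hms⟩ := hcs _ hs
        have : ((⟨c, hc⟩ : C) * s)⁻¹ * (s * ⟨c, hc⟩) =
            ((⟨c, hc⟩ : C) * s)⁻¹ * m⁻¹ * ((⟨c, hc⟩ : C) * s) := by
          have h2 : m = (⟨c, hc⟩ : C) * s * (⟨c, hc⟩ : C)⁻¹ * s⁻¹ := Subtype.ext hms
          rw [h2]; group
        rw [this]
        simpa using (inferInstance : N.Normal).conj_mem _ (inv_mem hm) ((⟨c, hc⟩ : C) * s)⁻¹
      have h2 := Coprime.centralizer_pCore_le (p := 2)
        (Coprime.pPrimeCore_quotient_eq_bot (G := C) Nat.prime_two) hcent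
      obtain ⟨k, hk⟩ := (Coprime.pCore_isPGroup (G := C ⧸ N) 2) ⟨_, h2⟩
      have ho : Odd (orderOf (π ⟨c, hc⟩)) := by
        refine hco.of_dvd_nat ((orderOf_map_dvd π _).trans ?_)
        rw [← Subgroup.orderOf_coe]
      exact ⟨⟨c, hc⟩, (QuotientGroup.eq_one_iff _).1
        (Invol.eq_one_of_odd_of_pow_two ho (congrArg Subtype.val hk)), rfl⟩
  have hbal : ∀ a ∈ (S : Subgroup X), a ≠ 1 → ∀ b ∈ (S : Subgroup X), b ≠ 1 →
      O a ⊓ centralizer ({b} : Set X) ≤ O b := by
    intro a ha ha1 b hb hb1 x hx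
    refine (hloc b hb hb1).2 x hx.2 (fun s hs => ?_)
      ((O_odd a).of_dvd_nat (Subgroup.orderOf_dvd_natCard _ hx.1))
    have h1 : x * s * x⁻¹ * s⁻¹ ∈ O a := by
      rw [show x * s * x⁻¹ * s⁻¹ = x * (s * x⁻¹ * s⁻¹) by group]
      exact mul_mem hx.1 (conj_mem_O (hSC a ha hs) (inv_mem hx.1))
    have h2 : x * s * x⁻¹ * s⁻¹ ∈ (S : Subgroup X) ⊔ O b :=
      mul_mem ((hloc b hb hb1).1 x hx.2 s hs) (mem_sup_left (inv_mem hs))
    have hSn : (S : Subgroup X) ≤ normalizer (O b : Set X) := by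
      intro y hy
      refine mem_normalizer_iff.2 fun z => ⟨conj_mem_O (hSC b hb hy), fun hz => ?_⟩
      have := conj_mem_O (inv_mem (hSC b hb hy)) hz
      rwa [show y⁻¹ * (y * z * y⁻¹) * y⁻¹⁻¹ = z by group] at this
    obtain ⟨w, hw, v, hv, hwv⟩ := Invol.mem_sup_of_normalizing hSn (sup_comm (S : Subgroup X) (O b) ▸ h2)
    have hodd : Odd (orderOf (x * s * x⁻¹ * s⁻¹)) :=
      (O_odd a).of_dvd_nat (Subgroup.orderOf_dvd_natCard _ h1)
    obtain ⟨i, hi⟩ := hodd
    have hpow : ∀ k : ℕ, ∃ w' ∈ O b, (w * v) ^ k = w' * v ^ k := by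
      intro k
      induction k with
      | zero => exact ⟨1, one_mem _, by simp⟩
      | succ k ih =>
        obtain ⟨w', hw', h⟩ := ih
        refine ⟨w' * (v ^ k * w * (v ^ k)⁻¹), mul_mem hw' ((mem_normalizer_iff.1 (hSn (pow_mem hv k)) w).1 hw), ?_⟩
        rw [pow_succ, h, pow_succ]
        group
    obtain ⟨w', hw', he⟩ := hpow (orderOf (x * s * x⁻¹ * s⁻¹))
    rw [hwv, pow_orderOf_eq_one, hi, pow_succ, pow_mul, hS.2 v hv, one_pow, one_mul] at he
    rw [← hwv]
    refine mul_mem hw ?_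
    rw [show v = w'⁻¹ * (w' * v) by group, ← he, mul_one]
    exact inv_mem hw'
  have hCsig : ∀ a ∈ (S : Subgroup X), a ≠ 1 →
      centralizer ({a} : Set X) ≤ normalizer (sig S : Set X) := by
    intro a ha ha1 c hc
    -- Frattini
    set C := centralizer ({a} : Set X) with hC
    haveI := hsol a ha ha1
    set S' := S.subtype (hSC a ha)
    haveI := Coprime.sylow_sup_pPrimeCore_normal S'
      ⟨⟨fun x y => Subtype.ext (Subtype.ext (hcomm _ x.2 _ y.2))⟩⟩
    set K := (S' : Subgroup C) ⊔ Cfsg.pPrimeCore 2 C with hK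
    have htop := Sylow.normalizer_sup_eq_top' (p := 2) (N := K) S' le_sup_left
    have hle : normalizer ((S' : Subgroup C) : Set C) ⊔ K ≤ (normalizer (sig S : Set X)).comap C.subtype := by
      refine sup_le (fun m hm => normalizer_le_sig S hS h8 hbal (mem_normalizer_iff.2 fun z => ?_))
        (sup_le (fun m hm => ?_) (fun m hm => ?_))
      · constructor
        · exact fun hz => (mem_normalizer_iff.1 hm ⟨z, hSC a ha hz⟩).1 hz
        · intro hz
          have hzC : z ∈ C := by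
            have hz' : (m : X) * z * (m : X)⁻¹ ∈ C := hSC a ha hz
            have := mul_mem (mul_mem (inv_mem m.2) hz') m.2
            rwa [show (m : X)⁻¹ * ((m : X) * z * (m : X)⁻¹) * m = z by group] at this
          exact (mem_normalizer_iff.1 hm ⟨z, hzC⟩).2 hz
      · exact normalizer_le_sig S hS h8 hbal (le_normalizer hm)
      · exact le_normalizer (O_le_sig S ha ha1 ⟨m, hm, rfl⟩)
    have htop' : normalizer ((S' : Subgroup C) : Set C) ⊔ K = ⊤ := htop
    rw [htop'] at hle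
    exact hle (mem_top (⟨c, hc⟩ : C))
  have hO : ∀ a ∈ (S : Subgroup X), a ≠ 1 → O a = ⊥ := fun a ha ha1 =>
    O_eq_bot S hS h8 hbal hCsig ha ha1
  have hCN : ∀ a ∈ (S : Subgroup X), a ≠ 1 →
      centralizer ({a} : Set X) ≤ normalizer ((S : Subgroup X) : Set X) := by
    intro a ha ha1 c hc
    have h1 := (hloc a ha ha1).1
    rw [hO a ha ha1, sup_bot_eq] at h1
    refine mem_normalizer_iff.2 fun z => ⟨h1 c hc z, fun hz => ?_⟩
    have := h1 c⁻¹ (inv_mem hc) _ hz
    rwa [show c⁻¹ * (c * z * c⁻¹) * c⁻¹⁻¹ = z by group] at this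
  obtain ⟨a₀, ha₀, ha₀1⟩ := (bot_or_exists_ne_one (S : Subgroup X)).resolve_left
    (fun h => by rw [h, Subgroup.card_bot] at h8; omega)
  refine ⟨?_, le_antisymm (fun c hc => ?_) fun x hx => mem_centralizer_iff.2 fun y hy => hcomm y hy x hx⟩
  swap
  · -- self-centralising
    have hcC : c ∈ centralizer ({a₀} : Set X) :=
      mem_centralizer_singleton_iff.2 (mem_centralizer_iff.1 hc a₀ ha₀).symm
    obtain ⟨k, m, hm, hkm⟩ := Nat.exists_eq_two_pow_mul_odd (orderOf_pos c).ne'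
    have hd : c ^ 2 ^ k = 1 := by
      have h2 : c ^ 2 ^ k ∈ O a₀ := (hloc a₀ ha₀ ha₀1).2 _ (pow_mem hcC _) (fun s hs => by
          rw [show c ^ 2 ^ k * s = s * c ^ 2 ^ k from
            (show Commute c s from (mem_centralizer_iff.1 hc s hs).symm).pow_left _]
          simp)
        (by rw [orderOf_pow_of_dvd (by positivity) (hkm ▸ dvd_mul_right _ _), hkm,
              Nat.mul_div_cancel_left _ (by positivity)]; exact hm)
      rwa [hO a₀ ha₀ ha₀1, mem_bot] at h2
    have hQ : IsPGroup 2 (zpowers c) := by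
      obtain ⟨j, -, hj⟩ := (Nat.dvd_prime_pow Nat.prime_two).1 (orderOf_dvd_of_pow_eq_one hd)
      exact IsPGroup.of_card (n := j) (by rw [Nat.card_zpowers, hj])
    exact PGroup.CSylow.le_sylow_of_le_normalizer S hQ
      (zpowers_le.2 (centralizer_le_normalizer _ hc)) (mem_zpowers c)
  have hNtop : normalizer ((S : Subgroup X) : Set X) ≠ ⊤ := by
    intro h
    haveI : (S : Subgroup X).Normal := normalizer_eq_top_iff.1 h
    rcases IsSimpleGroup.eq_bot_or_eq_top_of_normal (S : Subgroup X) inferInstance with h1 | h1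
    · rw [h1, Subgroup.card_bot] at h8; omega
    · obtain ⟨a, b, hab⟩ := hna
      exact hab (hcomm a (h1 ▸ mem_top a) b (h1 ▸ mem_top b))
  have hse := stronglyEmbedded_of_cent S hS.1 (fun x hx => by rw [← sq]; exact hS.2 x hx)
    (fun h => by rw [h, Subgroup.card_bot] at h8; omega) hNtop le_rfl hCN
  have h32 : Nat.card (S : Subgroup X) ≤ 32 := by
    rw [hcard]; exact (Nat.pow_le_pow_right two_pos hn5).trans (by norm_num)
  obtain ⟨F, i1, i2, hF, e⟩ := psl_of_se hse S h32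
  exact ⟨F, i1, i2, hF.trans hcard, e⟩

end CfsgLib.BGroup
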