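import Cfsg.Agent.Lib.BGroup.Fusion
import Cfsg.Agent.Lib.BGroup.Signalizer
import Cfsg.Agent.Lib.CIT.TwoNilp.UFour.Elem16
import Mathlib.GroupTheory.Perm.Cycle.Type

/-!
# Rank five: the involution centralisers are solvable
-/

set_option autoImplicit false
set_option linter.style.haveILetI false
set_option linter.unusedSectionVars false

namespace CfsgLib.BGroup

open Subgroup

universe u

variable {X : Type u} [Group X] [Finite X]

/-- A group in which the normaliser of an abelian Sylow 2-subgroup covers the quotient by the odd core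
is solvable. -/
theorem solvable_of_sup_eq_top {W : Type u} [Group W] [Finite W] (E : Sylow 2 W)
    (hE : IsMulCommutative (E : Subgroup W))
    (h : Cfsg.pPrimeCore 2 W ⊔ normalizer ((E : Subgroup W) : Set W) = ⊤) : Group.IsSolvable W := by
  haveI : Fact (Nat.Prime 2) := ⟨Nat.prime_two⟩
  set N := normalizer ((E : Subgroup W) : Set W) with hN
  have hEN : (E : Subgroup W) ≤ N := le_normalizer
  haveI : Group.IsSolvable N := by
    haveI : ((E : Subgroup W).subgroupOf N).Normal := normal_subgroupOf_of_le_normalizer le_rfl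
    haveI : IsMulCommutative ((E : Subgroup W).subgroupOf N) := by
      refine ⟨⟨fun x y => Subtype.ext (Subtype.ext ?_)⟩⟩
      show ((x : N) : W) * ((y : N) : W) = ((y : N) : W) * ((x : N) : W)
      exact congrArg Subtype.val (hE.is_comm.comm (⟨_, x.2⟩ : (E : Subgroup W)) ⟨_, y.2⟩)
    refine (Group.isSolvable_iff_subgroup_quotient ((E : Subgroup W).subgroupOf N)).2
      ⟨Group.isSolvable_of_comm mul_comm', Cfsg.Agent.S0205.result ?_⟩
    rw [← Subgroup.index_eq_card, ← Nat.not_even_iff_odd, even_iff_two_dvd]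
    exact (E.subtype hEN).not_dvd_index
  haveI := Coprime.pPrimeCore_characteristic (G := W) 2
  have hK : Group.IsSolvable (Cfsg.pPrimeCore 2 W) := Cfsg.Agent.S0205.result (by
    rw [← Nat.not_even_iff_odd, even_iff_two_dvd]
    exact Coprime.pPrimeCore_not_dvd Nat.prime_two)
  refine (Group.isSolvable_iff_subgroup_quotient (Cfsg.pPrimeCore 2 W)).2 ⟨hK, ?_⟩
  refine Group.isSolvable_of_surjective (f := (QuotientGroup.mk' (Cfsg.pPrimeCore 2 W)).comp N.subtype) ?_
  intro y
  obtain ⟨w, rfl⟩ := QuotientGroup.mk'_surjective _ y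
  obtain ⟨a, ha, b, hb, rfl⟩ := Set.mem_mul.1
    ((Subgroup.normal_mul (Cfsg.pPrimeCore 2 W) N) ▸ (SetLike.mem_coe.2 (h.symm ▸ mem_top w)))
  refine ⟨⟨b, hb⟩, ?_⟩
  show QuotientGroup.mk' _ b = QuotientGroup.mk' _ (a * b)
  rw [map_mul, show QuotientGroup.mk' (Cfsg.pPrimeCore 2 W) a = 1 from
    (QuotientGroup.eq_one_iff _).2 ha, one_mul]

/-- Rank five: every involution centraliser is solvable. -/
theorem Setting.five_solvable (hX : Setting X) (S : Sylow 2 X)
    (hcard : Nat.card (S : Subgroup X) = 2 ^ 5) {t : X} (ht : t ∈ (S : Subgroup X)) (ht1 : t ≠ 1) :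
    Group.IsSolvable ↥(centralizer ({t} : Set X)) := by
  haveI : Fact (Nat.Prime 2) := ⟨Nat.prime_two⟩
  obtain ⟨hstab, horb⟩ := hX.five_stab S hcard ht ht1
  set C := centralizer ({t} : Set X) with hC
  have hSC : (S : Subgroup X) ≤ C := fun x hx => mem_centralizer_singleton_iff.2 (hX.comm S hx ht)
  set tC : C := ⟨t, hSC ht⟩ with htC
  set Z := zpowers tC with hZ
  have hcen : ∀ c : C, c * tC = tC * c := fun c => Subtype.ext (mem_centralizer_singleton_iff.1 c.2)
  haveI : Z.Normal := ⟨fun z hz c => by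
    obtain ⟨i, rfl⟩ := mem_zpowers_iff.1 hz
    rw [((show Commute c tC from hcen c).zpow_right i).eq, mul_inv_cancel_right]
    exact zpow_mem (mem_zpowers _) i⟩
  have htsq : tC * tC = 1 := Subtype.ext (hX.sq_one S ht)
  set π := QuotientGroup.mk' Z with hπ
  set E := (S.subtype hSC).mapSurjective (QuotientGroup.mk'_surjective Z) with hE
  have hEc : (E : Subgroup (C ⧸ Z)) = ((S : Subgroup X).subgroupOf C).map π := Sylow.coe_mapSurjective _ _
  have hker : ∀ x : C, π x = 1 → (x : X) = 1 ∨ (x : X) = t := fun x hx =>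
    (eq_or_eq_of_mem_zpowers htsq ((QuotientGroup.eq_one_iff x).1 hx)).imp
      (congrArg Subtype.val) (congrArg Subtype.val)
  have hEmem : ∀ e ∈ (E : Subgroup (C ⧸ Z)), ∃ s : C, (s : X) ∈ (S : Subgroup X) ∧ π s = e := by
    intro e he
    rw [hEc] at he
    obtain ⟨s, hs, rfl⟩ := he
    exact ⟨s, hs, rfl⟩
  have hEexp : ∀ e ∈ (E : Subgroup (C ⧸ Z)), e * e = 1 := by
    intro e he
    obtain ⟨s, hs, rfl⟩ := hEmem e he
    rw [← map_mul, show s * s = 1 from Subtype.ext (hX.sq_one S hs), map_one]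
  have hE16 : Nat.card (E : Subgroup (C ⧸ Z)) = 16 := by
    have h1 := Invol.card_map_mk Z ((S : Subgroup X).subgroupOf C)
    have hZle : Z ≤ (S : Subgroup X).subgroupOf C := zpowers_le.2 ht
    rw [inf_eq_right.2 hZle, ← hEc, Nat.card_congr (subgroupOfEquivOfLe hSC).toEquiv, hcard,
      Nat.card_zpowers, Invol.invol_iff.2 ⟨htsq, fun h => ht1 (congrArg Subtype.val h)⟩] at h1
    omega
  -- lifting the normaliser
  have hlift : ∀ w ∈ normalizer ((E : Subgroup (C ⧸ Z)) : Set (C ⧸ Z)), ∃ c : C, π c = w ∧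
      (S : Subgroup X).map (MulAut.conj (c : X)).toMonoidHom = (S : Subgroup X) ∧
      MulAut.conj (c : X) t = t := by
    intro w hw
    obtain ⟨c, rfl⟩ := QuotientGroup.mk'_surjective Z w
    refine ⟨c, rfl, ?_, by rw [MulAut.conj_apply, mem_centralizer_singleton_iff.1 c.2, mul_inv_cancel_right]⟩
    refine eq_of_le_of_card_ge ?_ (by rw [card_map_of_injective (MulAut.conj (c : X)).injective])
    rintro _ ⟨s, hs, rfl⟩
    have h1 : π (c * ⟨s, hSC hs⟩ * c⁻¹) ∈ (E : Subgroup (C ⧸ Z)) := by
      rw [map_mul, map_mul, map_inv]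
      exact (mem_normalizer_iff.1 hw _).1 (hEc ▸ mem_map_of_mem π hs)
    obtain ⟨s', hs', he⟩ := hEmem _ h1
    have := hker (s'⁻¹ * (c * ⟨s, hSC hs⟩ * c⁻¹)) (by rw [map_mul, map_inv, he, inv_mul_cancel])
    show (c : X) * s * (c : X)⁻¹ ∈ (S : Subgroup X)
    rcases this with h | h <;>
    · rw [show (c : X) * s * (c : X)⁻¹ = (s' : X) * ((s'⁻¹ * (c * ⟨s, hSC hs⟩ * c⁻¹) : C) : X) by
        push_cast; group]
      refine mul_mem hs' ?_
      rw [h]
      first | exact one_mem _ | exact ht
  -- an element moving nothing modulo `t` moves nothing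
  have hfixmod : ∀ c : C, (S : Subgroup X).map (MulAut.conj (c : X)).toMonoidHom = (S : Subgroup X) →
      MulAut.conj (c : X) t = t → ∀ s : C, (s : X) ∈ (S : Subgroup X) → π c * π s = π s * π c →
      MulAut.conj (c : X) (s : X) = s := by
    intro c hcS hct s hs hcomm
    have h1 := hker (s⁻¹ * (c * s * c⁻¹))
      (by rw [map_mul, map_inv, map_mul, map_mul, map_inv, hcomm]; group)
    have h2 : MulAut.conj (c : X) (s : X) = (s : X) * ((s⁻¹ * (c * s * c⁻¹) : C) : X) := by
      rw [MulAut.conj_apply]; push_cast; group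
    rcases h1 with h | h <;> rw [h] at h2
    · rw [h2, mul_one]
    exfalso
    have h5 := (hstab _ (hX.inn _) hcS hct).2 (s : X) hs
    set f := MulAut.conj (c : X)
    have hf2 : f (f (s : X)) = s := by
      rw [h2, map_mul, h2, hct, mul_assoc, hX.sq_one S ht, mul_one]
    rw [show f ^ 5 = f * f * f * f * f from by simp only [pow_succ, pow_zero, one_mul],
      MulAut.mul_apply, MulAut.mul_apply, MulAut.mul_apply, MulAut.mul_apply, hf2, hf2, h2] at h5
    exact ht1 (mul_left_cancel (a := (s : X)) (by rw [h5, mul_one]))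
  have hcommW : ∀ w : C ⧸ Z, ∀ e ∈ (E : Subgroup (C ⧸ Z)),
      ∀ c : C, π c = w → ∀ s : C, π s = e → MulAut.conj (c : X) (s : X) = s → w * e = e * w := by
    rintro w e - c rfl s rfl h
    rw [← map_mul, ← map_mul]
    exact congrArg π (Subtype.ext (mul_inv_eq_iff_eq_mul.1 h))
  have h16 : TwoNilp.Sixteen E := by
    refine ⟨hE16, hEexp, ?_, ?_, ?_⟩
    · intro w hw e he he1 hwe x hx
      obtain ⟨c, rfl, hcS, hct⟩ := hlift w hw
      obtain ⟨s, hs, rfl⟩ := hEmem e he
      obtain ⟨y, hy, rfl⟩ := hEmem x hx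
      have hfix := hfixmod c hcS hct s hs hwe
      rcases (hstab _ (hX.inn _) hcS hct).1 with h | h
      · exact hcommW _ _ hx c rfl y rfl (h _ hy)
      · exfalso
        refine he1 ((QuotientGroup.eq_one_iff s).2 ?_)
        rcases h _ hs hfix with h' | h'
        · rw [show s = 1 from Subtype.ext h']; exact one_mem _
        · rw [show s = tC from Subtype.ext h']; exact mem_zpowers _
    · intro w hw hmove D hD hinv
      obtain ⟨c, rfl, hcS, hct⟩ := hlift w hw
      rcases (hstab _ (hX.inn _) hcS hct).1 with h | h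
      · exfalso
        obtain ⟨x, hx, hxw⟩ := hmove
        obtain ⟨y, hy, rfl⟩ := hEmem x hx
        exact hxw (hcommW _ _ hx c rfl y rfl (h _ hy))
      by_cases hD0 : D = ⊥
      · exact Or.inl hD0
      right
      classical
      haveI := Fintype.ofFinite D
      haveI := Fact.mk (show Nat.Prime 5 by norm_num)
      let P := {d : D // d ≠ 1}
      let f : P → P := fun d => ⟨⟨π c * d.1.1 * (π c)⁻¹, hinv _ d.1.2⟩, fun h' => d.2 (Subtype.ext
        (conj_eq_one_iff.1 (congrArg Subtype.val h')))⟩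
      have hfinj : Function.Injective f := fun a b hab => Subtype.ext (Subtype.ext
        (mul_left_cancel (mul_right_cancel (congrArg (fun z : P => z.1.1) hab))))
      let σ : Equiv.Perm P := Equiv.ofBijective f (Finite.injective_iff_bijective.1 hfinj)
      have hiter : ∀ (k : ℕ) (d : P), (((σ ^ k) d).1 : C ⧸ Z) = π c ^ k * d.1.1 * (π c ^ k)⁻¹ := by
        intro k
        induction k with
        | zero => intro d; simp
        | succ k ih =>
          intro d
          rw [pow_succ', Equiv.Perm.mul_apply]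
          show π c * ((σ ^ k) d).1.1 * (π c)⁻¹ = _
          rw [ih, pow_succ']
          group
      have hσ : σ ^ 5 ^ 1 = 1 := by
        refine Equiv.ext fun d => Subtype.ext (Subtype.ext ?_)
        rw [pow_one, hiter]
        obtain ⟨s, hs, hse⟩ := hEmem _ (hD d.1.2)
        have h5 := (hstab _ (hX.inn _) hcS hct).2 (s : X) hs
        rw [← map_pow, ← hse, ← map_inv, ← map_mul, ← map_mul]
        show π (c ^ 5 * s * (c ^ 5)⁻¹) = ((1 : Equiv.Perm P) d).1.1
        rw [Equiv.Perm.one_apply, ← hse]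
        refine congrArg π (Subtype.ext ?_)
        push_cast
        rw [← map_pow, MulAut.conj_apply] at h5
        exact h5
      have hdvd : 5 ∣ Fintype.card P := by
        by_contra h5
        obtain ⟨d, hd⟩ := Equiv.Perm.exists_fixed_point_of_prime h5 hσ
        obtain ⟨s, hs, hse⟩ := hEmem _ (hD d.1.2)
        have hd' : π c * π s = π s * π c := by
          rw [hse]
          exact mul_inv_eq_iff_eq_mul.1 (congrArg (fun z : P => (z.1 : C ⧸ Z)) hd)
        refine d.2 (Subtype.ext ?_)
        rw [← hse, OneMemClass.coe_one, hπ, QuotientGroup.mk'_apply, QuotientGroup.eq_one_iff]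
        rcases h _ hs (hfixmod c hcS hct s hs hd') with h' | h'
        · rw [show s = 1 from Subtype.ext h']; exact one_mem _
        · rw [show s = tC from Subtype.ext h']; exact mem_zpowers _
      have hcardP : Fintype.card P = Nat.card D - 1 := by
        rw [Fintype.card_subtype_compl, Fintype.card_subtype_eq, Nat.card_eq_fintype_card]
      obtain ⟨k, hk4, hk⟩ := (Nat.dvd_prime_pow Nat.prime_two (m := 4)).1
        ((hE16 ▸ card_dvd_of_le hD :) : Nat.card D ∣ 2 ^ 4)
      have hk0 : k ≠ 0 := fun h0 => hD0 (card_eq_one.1 (by rw [hk, h0, pow_zero]))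
      rw [hcardP, hk] at hdvd
      refine eq_of_le_of_card_ge hD ?_
      rw [hE16, hk]
      interval_cases k <;> omega
    · intro e he
      classical
      obtain ⟨s, hs, rfl⟩ := hEmem e he
      obtain ⟨Zs, hZs, hmem⟩ := horb (s : X) hs
      refine ⟨Zs.image (fun x => if h : x ∈ C then π ⟨x, h⟩ else 1),
        Finset.card_image_le.trans hZs, fun w hw => ?_⟩
      obtain ⟨c, rfl, hcS, hct⟩ := hlift w hw
      refine Finset.mem_image.2 ⟨_, hmem _ (hX.inn _) hcS hct, ?_⟩
      rw [dif_pos (show MulAut.conj (c : X) (s : X) ∈ C from mul_mem (mul_mem c.2 s.2) (inv_mem c.2)),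
        ← map_inv, ← map_mul, ← map_mul]
      rfl
  haveI : IsMulCommutative (E : Subgroup (C ⧸ Z)) := ⟨⟨fun a b => Subtype.ext (by
    obtain ⟨x, hx, hxa⟩ := hEmem _ a.2
    obtain ⟨y, hy, hyb⟩ := hEmem _ b.2
    show (a : C ⧸ Z) * b = b * a
    rw [← hxa, ← hyb, ← map_mul, ← map_mul, show x * y = y * x from Subtype.ext (hX.comm S hx hy)])⟩⟩
  exact (Group.isSolvable_iff_subgroup_quotient Z).2
    ⟨Group.isSolvable_of_comm mul_comm', solvable_of_sup_eq_top E inferInstance h16.eq_top⟩

end CfsgLib.BGroup
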