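import Cfsg.Agent.Lib.BGroup.Descend
import Cfsg.Agent.Lib.BGroup.Five
import Cfsg.Agent.Lib.BGroup.Three.Core
import Cfsg.Agent.Lib.BGroup.Defs
import Cfsg.Agent.Lib.CIT.TI

/-!
# The case division by the rank of the Sylow 2-subgroup
-/

set_option autoImplicit false
set_option linter.style.haveILetI false
set_option linter.unusedSectionVars false

namespace CfsgLib.BGroup

open Subgroup
open scoped commutatorElement

universe u

variable {X : Type u} [Group X] [Finite X] [IsSimpleGroup X]

/-- The reduction to rank three with trivial cores. -/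
theorem Setting.concl (hX : Setting X) (hna : ∃ a b : X, a * b ≠ b * a)
    (htail : ∀ S : Sylow 2 X, Nat.card (S : Subgroup X) = 8 →
      (∀ t ∈ (S : Subgroup X), t ≠ 1 → ¬ Group.IsSolvable ↥(centralizer ({t} : Set X))) →
      (∀ t ∈ (S : Subgroup X), t ≠ 1 → O t = ⊥) → Cfsg.Spor.IsoJ1 X) : Concl X := by
  haveI : Fact (Nat.Prime 2) := ⟨Nat.prime_two⟩
  obtain ⟨S⟩ : Nonempty (Sylow 2 X) := inferInstance
  obtain ⟨n, hn⟩ := S.2.exists_card_eq
  obtain ⟨E, hE⟩ := exists_klein hna
  have hn2 : 2 ≤ n := by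
    obtain ⟨g, hg⟩ := Invol.exists_conj_le_sylow
      (IsPGroup.of_card (n := 2) hE.card_four : IsPGroup 2 E) S
    have h1 : E.map (MulAut.conj g).toMonoidHom ≤ (S : Subgroup X) := by
      rintro _ ⟨x, hx, rfl⟩; exact hg x hx
    have h2 := card_le_of_le h1
    rw [card_map_of_injective (MulAut.conj g).injective, hE.card_four, hn] at h2
    by_contra hlt
    rcases (show n = 0 ∨ n = 1 by omega) with rfl | rfl <;> omega
  have hsl : ∀ (F : Type) (_ : Field F) (_ : Fintype F) (m : ℕ), 1 ≤ m → Fintype.card F = 2 ^ m →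
      Nonempty (X ≃* Matrix.ProjectiveSpecialLinearGroup (Fin 2) F) →
      Nonempty (X ≃* Matrix.SpecialLinearGroup (Fin 2) F) := by
    intro F _ _ m hm hF ⟨e⟩
    haveI := Bender.Suzuki.charTwo_of_card hF
    obtain ⟨g⟩ := CIT.sl_two_equiv_psl (K := F)
    exact ⟨e.trans g.symm⟩
  rcases hX.rank_cases S hn2 hn with rfl | rfl | rfl
  · haveI : Group.IsPerfect X := by
      rw [Group.isPerfect_def]
      rcases IsSimpleGroup.eq_bot_or_eq_top_of_normal (commutator X) inferInstance with h | h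
      · obtain ⟨a, b, hab⟩ := hna
        refine absurd ?_ hab
        have h1 : (⁅a, b⁆ : X) ∈ commutator X := commutator_mem_commutator (mem_top a) (mem_top b)
        rw [h, mem_bot] at h1
        exact commutatorElement_eq_one_iff_mul_comm.1 h1
      · exact h
    obtain ⟨F, i1, i2, h5, h8, ⟨e⟩⟩ := psl_of_perfect_four S (by rw [hn]; norm_num) (fun x hx => hX.sq_one S hx)
    have hcore : Cfsg.oddCore X = ⊥ := by
      haveI := Coprime.pPrimeCore_characteristic (G := X) 2
      rcases IsSimpleGroup.eq_bot_or_eq_top_of_normal (Cfsg.pPrimeCore 2 X) inferInstance with h1 | h1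
      · exact h1
      exfalso
      have := Coprime.pPrimeCore_not_dvd (G := X) Nat.prime_two
      rw [h1, Subgroup.card_top] at this
      exact this ((show 2 ∣ 2 ^ 2 by norm_num).trans (hn ▸ Subgroup.card_subgroup_dvd_card _))
    exact Or.inr (Or.inl ⟨F, i1, i2, h5, h8,
      ⟨((QuotientGroup.quotientBot (G := X)).symm.trans
        (QuotientGroup.quotientMulEquivOfEq hcore.symm)).trans e⟩⟩)
  · by_cases hs : ∀ t ∈ (S : Subgroup X), t ≠ 1 → Group.IsSolvable ↥(centralizer ({t} : Set X))
    · obtain ⟨⟨F, i1, i2, hF, e⟩, -⟩ :=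
        solvable_case hna S (hX.elementary S) le_rfl (by norm_num) hn hs
      exact Or.inl ⟨F, i1, i2, Or.inr (Or.inl hF), hsl F i1 i2 3 (by norm_num) hF e⟩
    push Not at hs
    obtain ⟨t₀, ht₀, ht₀1, hns₀⟩ := hs
    have hns : ∀ t ∈ (S : Subgroup X), t ≠ 1 → ¬ Group.IsSolvable ↥(centralizer ({t} : Set X)) := by
      intro t ht ht1 hsol
      obtain ⟨e, -, het⟩ := hX.invol_fuse (hX.invol_of_mem S ht ht1) (hX.invol_of_mem S ht₀ ht₀1)
      have h := map_centralizer e t
      rw [het] at h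
      exact hns₀ (Coprime.isSolvable_congr
        ((e.subgroupMap (centralizer ({t} : Set X))).trans (MulEquiv.subgroupCongr h)) hsol)
    exact Or.inr (Or.inr (htail S (by rw [hn]; norm_num) hns
      fun t ht ht1 => hX.O_three_eq_bot S (by rw [hn]; norm_num) hns ht ht1))
  · obtain ⟨⟨F, i1, i2, hF, e⟩, -⟩ := solvable_case hna S (hX.elementary S) (by norm_num) le_rfl hn
      (fun t ht ht1 => hX.five_solvable S hn ht ht1)
    exact Or.inl ⟨F, i1, i2, Or.inr (Or.inr hF), hsl F i1 i2 5 (by norm_num) hF e⟩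

end CfsgLib.BGroup
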