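import Cfsg.Agent.Lib.BGroup.Basic

/-!
# The setting on a simple normal subgroup
-/

set_option autoImplicit false
set_option linter.style.haveILetI false
set_option linter.unusedSectionVars false

namespace CfsgLib.BGroup

open Subgroup

universe u

variable {G : Type u} [Group G] [Finite G]

theorem two_dvd_card_of_klein {X : Type u} [Group X] [Finite X] {E : Subgroup X}
    (hE : IsKleinFour E) : 2 ∣ Nat.card X :=
  Dvd.dvd.trans (by rw [hE.card_four]; norm_num) (Subgroup.card_subgroup_dvd_card E)

/-- A simple normal subgroup of a group with conjugate equal-order abelian subgroups carries a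
setting. -/
theorem exists_setting (hB : Invol.AbelianConjugate G) (M : Subgroup G) [M.Normal] [IsSimpleGroup M]
    (hna : ∃ a b : M, a * b ≠ b * a) : Nonempty (Setting M) := by
  haveI : Fact (Nat.Prime 2) := ⟨Nat.prime_two⟩
  obtain ⟨E, hE⟩ := exists_klein hna
  -- no element of order four
  have h4 : ∀ a : G, orderOf a ≠ 4 := by
    intro a ha
    haveI := hE
    haveI : IsMulCommutative E := ⟨⟨mul_comm_of_exponent_two hE.exponent_two⟩⟩
    obtain ⟨g, hg⟩ := hB (E.map M.subtype) (zpowers a) inferInstance inferInstance (by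
      rw [card_map_of_injective M.subtype_injective, hE.card_four, Nat.card_zpowers, ha])
    obtain ⟨y, hy, hya⟩ := hg ▸ mem_zpowers a
    obtain ⟨z, hz, rfl⟩ := hy
    have h2 : a ^ 2 = 1 := by
      rw [← hya, ← map_pow, ← map_pow]
      have := congrArg Subtype.val (IsKleinFour.mul_self (⟨z, hz⟩ : E))
      rw [show z ^ 2 = 1 by rw [sq]; exact this, map_one, map_one]
    have := Nat.le_of_dvd (by norm_num) (orderOf_dvd_of_pow_eq_one h2)
    omega
  have hexp : ∀ x : G, ∀ k : ℕ, x ^ 2 ^ k = 1 → x * x = 1 := by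
    intro x k hk
    obtain ⟨j, -, hj⟩ := (Nat.dvd_prime_pow Nat.prime_two).1 (orderOf_dvd_of_pow_eq_one hk)
    by_cases hj2 : j ≤ 1
    · rw [← sq]
      exact orderOf_dvd_iff_pow_eq_one.1 (hj ▸ (pow_dvd_pow 2 hj2).trans (by norm_num))
    exfalso
    refine h4 (x ^ 2 ^ (j - 2)) ?_
    rw [orderOf_pow_of_dvd (pow_ne_zero _ two_ne_zero) (hj ▸ pow_dvd_pow 2 (Nat.sub_le j 2)),
      hj, Nat.pow_div (Nat.sub_le j 2) two_pos, Nat.sub_sub_self (by omega)]
    rfl
  obtain ⟨u₀, hu₀⟩ := exists_prime_orderOf_dvd_card' 2 (two_dvd_card_of_klein hE)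
  -- every involution lies in `M`
  obtain ⟨S⟩ : Nonempty (Sylow 2 G) := inferInstance
  have hSM : (S : Subgroup G) ≤ M := by
    intro x hx
    by_cases h1 : x = 1
    · exact h1 ▸ one_mem M
    obtain ⟨k, hk⟩ := S.2 ⟨x, hx⟩
    refine hB.mem_of_normal M u₀.2 ?_
    rw [Subgroup.orderOf_coe, hu₀, Invol.invol_iff.2 ⟨hexp x k (congrArg Subtype.val hk), h1⟩]
  have hodd : Odd M.index := by
    rw [← Nat.not_even_iff_odd, even_iff_two_dvd]
    exact fun h => S.not_dvd_index (h.trans (index_dvd_of_le hSM))
  have hconj : ∀ m : M, MulAut.conjNormal (m : G) = MulAut.conj m := fun m =>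
    MulAut.conjNormal_val (h := m)
  refine ⟨{ Λ := (MulAut.conjNormal : G →* MulAut M).range
            inn := fun m => ⟨m, hconj m⟩
            fuse := ?_
            odd_index := ?_
            exp_two := fun x k hx => Subtype.ext (hexp x k (congrArg Subtype.val hx)) }⟩
  · intro A B hA hB' h
    haveI := hA; haveI := hB'
    obtain ⟨g, hg⟩ := hB (A.map M.subtype) (B.map M.subtype) inferInstance inferInstance (by
      rw [card_map_of_injective M.subtype_injective, card_map_of_injective M.subtype_injective, h])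
    refine ⟨MulAut.conjNormal g, ⟨g, rfl⟩, map_injective M.subtype_injective ?_⟩
    rw [hg, map_map, map_map]
    rfl
  · refine hodd.of_dvd_nat ?_
    have h1 : (MulAut.conj : M →* MulAut M).range =
        M.map (MulAut.conjNormal : G →* MulAut M) := by
      ext e
      constructor
      · rintro ⟨m, rfl⟩; exact ⟨m, m.2, hconj m⟩
      · rintro ⟨g, hg, rfl⟩; exact ⟨⟨g, hg⟩, (hconj ⟨g, hg⟩).symm⟩
    rw [h1, MonoidHom.range_eq_map, relIndex_map_map, top_sup_eq, relIndex_top_right]
    exact index_dvd_of_le le_sup_left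

end CfsgLib.BGroup
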