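import Cfsg.Agent.Lib.GW.FieldPart

/-!
# Automorphisms of odd order of `PSL(2, q)` centralizing a four group
-/

set_option autoImplicit false
set_option linter.unusedSectionVars false
set_option linter.style.haveILetI false

namespace CfsgLib.BGroup

open Matrix CfsgLib.AutPSL CfsgLib.Descent

variable {F : Type} [Field F] [Fintype F]

local notation "PSL2" => Matrix.ProjectiveSpecialLinearGroup (Fin 2) F

/-- An automorphism of odd order centralizing a four group is determined by its field part. -/
theorem field_injective (h2 : (2 : F) ≠ 0) {β : MulAut PSL2} (hodd : Odd (orderOf β)) {a b : PSL2}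
    (ha : orderOf a = 2) (hb : orderOf b = 2) (hne : a ≠ b) (hab : Commute a b) (hβa : β a = a) (hβb : β b = b)
    (hf : CfsgLib.GW.fieldPartHom β = 1) : β = 1 := by
  obtain ⟨g, rfl⟩ := CfsgLib.GW.mem_ker_fieldPartHom.1 hf
  obtain ⟨A, rfl⟩ := QuotientGroup.mk'_surjective _ a
  obtain ⟨B, rfl⟩ := QuotientGroup.mk'_surjective _ b
  have hinj : Function.Injective (MulAut.conj : PSL2 →* MulAut PSL2) := conj_injective le_rfl
  have hfix : ∀ (x : PSL2), indHom g x = x → Commute (indHom g) (MulAut.conj x) := fun x hx => by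
    refine MulEquiv.ext fun y => ?_
    simp only [MulAut.mul_apply, MulAut.conj_apply, map_mul, map_inv, hx]
  refine CfsgLib.GW.Two.cent_four h2 (a := Matrix.SpecialLinearGroup.toGL A)
    (b := Matrix.SpecialLinearGroup.toGL B) ?_ ?_ ?_ ?_ hodd ?_ ?_
  · rw [← conj_proj, orderOf_injective _ hinj]; exact ha
  · rw [← conj_proj, orderOf_injective _ hinj]; exact hb
  · rw [← conj_proj, ← conj_proj]; exact fun e => hne (hinj e)
  · rw [← conj_proj, ← conj_proj]; exact hab.map MulAut.conj
  · rw [← conj_proj]; exact hfix _ hβa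
  · rw [← conj_proj]; exact hfix _ hβb

/-- The order of an automorphism of odd order centralizing a four group is that of its field part. -/
theorem orderOf_field (h2 : (2 : F) ≠ 0) {β : MulAut PSL2} (hodd : Odd (orderOf β)) {a b : PSL2}
    (ha : orderOf a = 2) (hb : orderOf b = 2) (hne : a ≠ b) (hab : Commute a b) (hβa : β a = a) (hβb : β b = b) :
    orderOf (CfsgLib.GW.fieldPartHom β) = orderOf β := by
  refine Nat.dvd_antisymm (orderOf_map_dvd _ _) (orderOf_dvd_of_pow_eq_one ?_)
  have hpow : ∀ (x : PSL2), β x = x → ∀ k : ℕ, (β ^ k) x = x := fun x hx k => by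
    induction k with
    | zero => rfl
    | succ k ih => rw [pow_succ, MulAut.mul_apply, hx, ih]
  refine field_injective h2 ?_ ha hb hne hab (hpow _ hβa _) (hpow _ hβb _) ?_
  · exact hodd.of_dvd_nat (orderOf_pow_dvd _)
  · rw [map_pow, pow_orderOf_eq_one]

/-- The image of the linear group over the fixed field. -/
theorem fixed_field_equiv (h2 : (2 : F) ≠ 0) {σ : RingAut F} (hodd : Odd (orderOf σ)) :
    Nonempty (Matrix.ProjectiveSpecialLinearGroup (Fin 2) (fixedField σ) ≃*
      MonoidHom.eqLocus (ind (1 : GL (Fin 2) F) σ).toMonoidHom (MonoidHom.id PSL2)) := by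
  classical
  haveI : Finite (RingAut F) := Finite.of_injective (fun τ : RingAut F => (τ : F → F)) DFunLike.coe_injective
  haveI : Fintype (fixedField σ) := Fintype.ofFinite _
  set j : fixedField σ →+* F := (fixedField σ).subtype with hj
  have hfix : ∀ u : Matrix.SpecialLinearGroup (Fin 2) (fixedField σ),
      slField σ (Matrix.SpecialLinearGroup.map j u) = Matrix.SpecialLinearGroup.map j u := fun u => by
    apply Subtype.ext
    ext a b
    exact (u.1 a b).2
  set L := MonoidHom.eqLocus (ind (1 : GL (Fin 2) F) σ).toMonoidHom (MonoidHom.id PSL2) with hL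
  let f : Matrix.SpecialLinearGroup (Fin 2) (fixedField σ) →* L :=
    (proj.comp (Matrix.SpecialLinearGroup.map j)).codRestrict L fun u => by
      show ind (1 : GL (Fin 2) F) σ (proj _) = proj _
      rw [field_proj, hfix]
  have hker : ∀ u, f u = 1 ↔ u ∈ Subgroup.center (Matrix.SpecialLinearGroup (Fin 2) (fixedField σ)) := by
    intro u
    constructor
    · intro hu
      have hu' : proj (Matrix.SpecialLinearGroup.map j u) = 1 := congrArg Subtype.val hu
      obtain ⟨c, hc1, hc⟩ := Matrix.SpecialLinearGroup.mem_center_iff.1 ((QuotientGroup.eq_one_iff _).1 hu')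
      have hcf : c = j (u.1 0 0) := by
        have h := congrFun (congrFun hc 0) 0
        simpa using h
      refine Matrix.SpecialLinearGroup.mem_center_iff.2 ⟨u.1 0 0, ?_, ?_⟩
      · apply j.injective
        rw [map_pow, ← hcf, hc1, map_one]
      · ext a b
        have h := congrFun (congrFun hc a) b
        rcases eq_or_ne a b with rfl | hab
        · simp at h ⊢
          exact Subtype.ext (hcf.symm.trans h)
        · simp [hab] at h ⊢
          first | exact h | exact Subtype.ext h
    · intro hu
      obtain ⟨c, -, hc⟩ := Matrix.SpecialLinearGroup.mem_center_iff.1 hu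
      refine Subtype.ext (proj_eq_one_of_scalar le_rfl (c := (c : F)) ?_)
      show u.1.map j = _
      rw [← hc, Matrix.scalar_apply, Matrix.diagonal_map (map_zero j), Matrix.smul_one_eq_diagonal]
      rfl
  let f' : Matrix.ProjectiveSpecialLinearGroup (Fin 2) (fixedField σ) →* L :=
    QuotientGroup.lift _ f fun u hu => (hker u).2 hu
  refine ⟨MulEquiv.ofBijective f' ⟨?_, ?_⟩⟩
  · rw [injective_iff_map_eq_one]
    intro x hx
    obtain ⟨u, rfl⟩ := QuotientGroup.mk'_surjective _ x
    exact (QuotientGroup.eq_one_iff _).2 ((hker u).1 hx)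
  · rintro ⟨k, hk⟩
    obtain ⟨g, hg, hgk⟩ := exists_fixed_lift le_rfl rfl (orderOf_pos σ) (show ind (1 : GL (Fin 2) F) σ k = k from hk)
    have hsq : IsSquare g.1.det := (CfsgLib.GW.indHom_mem_inn_iff h2 g).1 ⟨k, hgk.symm⟩
    obtain ⟨c, hc⟩ := hsq
    have hdσ : σ g.1.det = g.1.det := by
      have h := det_glMap σ g
      rw [hg] at h
      exact h.symm
    have hcσ : σ c = c := by
      have h : σ c * σ c = c * c := by rw [← map_mul, ← hc, hdσ]
      rcases mul_self_eq_mul_self_iff.1 h with h' | h'
      · exact h'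
      · have hk' : ∀ i : ℕ, (σ ^ i) c = (-1) ^ i * c := fun i => by
          induction i with
          | zero => simp
          | succ i ih =>
            show (σ ^ (i + 1)) c = _
            rw [pow_succ, RingAut.mul_apply, h', map_neg, ih, pow_succ]
            ring
        have h1 := hk' (orderOf σ)
        rw [pow_orderOf_eq_one, RingAut.one_apply, Odd.neg_one_pow hodd, neg_one_mul] at h1
        have hc0 : c = 0 := (mul_eq_zero.1 (show (2 : F) * c = 0 by linear_combination h1)).resolve_left h2
        rw [h', hc0, neg_zero]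
    have hc0 : c ≠ 0 := fun e => (g.isUnit.map Matrix.detMonoidHom).ne_zero (by
      show g.1.det = 0
      rw [hc, e, mul_zero])
    have hgσ : ∀ a b, σ (g.1 a b) = g.1 a b := fun a b =>
      congrArg (fun X : GL (Fin 2) F => X.1 a b) hg
    let M : Matrix (Fin 2) (Fin 2) (fixedField σ) := Matrix.of fun a b =>
      ⟨c⁻¹ * g.1 a b, by rw [mem_fixedField, map_mul, map_inv₀, hcσ, hgσ]⟩
    have hMv : M.map j = c⁻¹ • g.1 := by ext a b; rfl
    have hdet : M.det = 1 := by
      apply j.injective
      rw [RingHom.map_det, RingHom.mapMatrix_apply, hMv, Matrix.det_smul, Fintype.card_fin, hc, map_one]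
      field_simp
    refine ⟨QuotientGroup.mk' _ ⟨M, hdet⟩, Subtype.ext ?_⟩
    show proj (Matrix.SpecialLinearGroup.map j ⟨M, hdet⟩) = k
    refine conj_injective le_rfl ?_
    rw [conj_proj, ← hgk, indHom_apply, indHom_apply, ← ind_scal_mul (Units.mk0 c⁻¹ (inv_ne_zero hc0)) g 1]
    refine congrArg (fun X => ind X 1) (Units.ext ?_)
    rw [Units.val_mul, scal_val, smul_mul_assoc, one_mul]
    exact hMv

/-- The centralizer in `PSL(2, q)` of an automorphism of odd order centralizing a four group. -/
theorem cent_equiv (h2 : (2 : F) ≠ 0) {β : MulAut PSL2} (hodd : Odd (orderOf β)) {a b : PSL2}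
    (ha : orderOf a = 2) (hb : orderOf b = 2) (hne : a ≠ b) (hab : Commute a b) (hβa : β a = a) (hβb : β b = b) :
    ∃ (F₀ : Type) (_ : Field F₀) (_ : Fintype F₀), Fintype.card F₀ ^ orderOf β = Fintype.card F ∧
      Nonempty (MonoidHom.eqLocus β.toMonoidHom (MonoidHom.id PSL2) ≃*
        Matrix.ProjectiveSpecialLinearGroup (Fin 2) F₀) := by
  classical
  haveI : Finite (RingAut F) := Finite.of_injective (fun τ : RingAut F => (τ : F → F)) DFunLike.coe_injective
  have hord := orderOf_field h2 hodd ha hb hne hab hβa hβb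
  obtain ⟨σ, A, hA⟩ := CfsgLib.GW.exists_ind β
  rw [hA, CfsgLib.GW.fieldPartHom_ind, ← hA] at hord
  haveI : Fintype (fixedField σ) := Fintype.ofFinite _
  refine ⟨fixedField σ, inferInstance, inferInstance, ?_, ?_⟩
  · rw [← Nat.card_eq_fintype_card (α := fixedField σ), ← hord, card_fixedField_pow]
  obtain ⟨B, hB⟩ := field_coset_conj le_rfl rfl (orderOf_pos σ) A (by rw [← hA, hord, pow_orderOf_eq_one])
  obtain ⟨e⟩ := fixed_field_equiv h2 (σ := σ) (hord ▸ hodd)
  have hmap : (MonoidHom.eqLocus (ind (1 : GL (Fin 2) F) σ).toMonoidHom (MonoidHom.id PSL2)).map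
      (ind B 1 : MulAut PSL2).toMonoidHom = MonoidHom.eqLocus β.toMonoidHom (MonoidHom.id PSL2) := by
    ext y
    simp only [Subgroup.mem_map, MonoidHom.eqLocus, Subgroup.mem_mk, MulEquiv.coe_toMonoidHom]
    constructor
    · rintro ⟨x, hx, rfl⟩
      show β (ind B 1 x) = ind B 1 x
      rw [hA, hB, MulAut.mul_apply, MulAut.mul_apply, MulAut.inv_apply_self]
      exact congrArg (ind B 1) hx
    · intro hy
      refine ⟨(ind B 1)⁻¹ y, ?_, MulAut.apply_inv_self _ _ _⟩
      show ind 1 σ ((ind B 1)⁻¹ y) = (ind B 1)⁻¹ y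
      have h : β y = y := hy
      rw [hA, hB, MulAut.mul_apply, MulAut.mul_apply] at h
      conv_rhs => rw [← h]
      rw [MulAut.inv_apply_self]
  exact ⟨((e.trans ((ind B 1 : MulAut PSL2).subgroupMap _)).trans (MulEquiv.subgroupCongr hmap)).symm⟩

end CfsgLib.BGroup
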