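import Cfsg.Agent.Lib.BGroup.Basic
import Cfsg.Agent.Lib.PGroup.CyclicSylowTools
import Cfsg.Agent.Lib.Bender.OddQuot.Field

/-!
# Fusion on the Sylow 2-subgroup

The automorphisms in `Λ` that stabilise a Sylow 2-subgroup induce a group of odd order on it, transitive
on its subgroups of each order. Counting four subgroups bounds the rank: it is 2, 3 or 5.
-/

set_option autoImplicit false
set_option linter.style.haveILetI false
set_option linter.unusedSectionVars false

namespace CfsgLib.BGroup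

open Subgroup

universe u

variable {X : Type u} [Group X] [Finite X]

namespace Setting

variable (hX : Setting X) (S : Sylow 2 X)
include hX

theorem sq_one {x : X} (hx : x ∈ (S : Subgroup X)) : x * x = 1 := by
  obtain ⟨k, hk⟩ := S.2 ⟨x, hx⟩
  exact hX.exp_two x k (congrArg Subtype.val hk)

theorem invol_of_mem {x : X} (hx : x ∈ (S : Subgroup X)) (h1 : x ≠ 1) : orderOf x = 2 :=
  Invol.invol_iff.2 ⟨hX.sq_one S hx, h1⟩

theorem comm {x y : X} (hx : x ∈ (S : Subgroup X)) (hy : y ∈ (S : Subgroup X)) :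
    x * y = y * x := by
  have h1 := hX.sq_one S (mul_mem hx hy)
  have hxi : x⁻¹ = x := inv_eq_of_mul_eq_one_left (hX.sq_one S hx)
  have hyi : y⁻¹ = y := inv_eq_of_mul_eq_one_left (hX.sq_one S hy)
  calc x * y = (x * y)⁻¹ := (inv_eq_of_mul_eq_one_left h1).symm
    _ = y * x := by rw [mul_inv_rev, hxi, hyi]

theorem isMulCommutative : IsMulCommutative (S : Subgroup X) :=
  ⟨⟨fun x y => Subtype.ext (hX.comm S x.2 y.2)⟩⟩

theorem elementary : Cfsg.IsElementaryAbelian 2 (S : Subgroup X) :=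
  ⟨hX.isMulCommutative S, fun a ha => by rw [sq]; exact hX.sq_one S ha⟩

theorem le_centralizer {A : Subgroup X} (hA : A ≤ (S : Subgroup X)) :
    (S : Subgroup X) ≤ centralizer (A : Set X) := fun _ hs =>
  mem_centralizer_iff.2 fun _ ha => hX.comm S (hA ha) hs

/-- A `2`-element normalising the Sylow subgroup lies in it. -/
theorem mem_of_normalizes {x : X} {k : ℕ} (hk : x ^ 2 ^ k = 1)
    (hx : x ∈ normalizer ((S : Subgroup X) : Set X)) : x ∈ (S : Subgroup X) := by
  haveI : Fact (Nat.Prime 2) := ⟨Nat.prime_two⟩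
  have hQ : IsPGroup 2 (zpowers x) := by
    obtain ⟨j, -, hj⟩ := (Nat.dvd_prime_pow Nat.prime_two).1 (orderOf_dvd_of_pow_eq_one hk)
    exact IsPGroup.of_card (n := j) (by rw [Nat.card_zpowers, hj])
  exact PGroup.CSylow.le_sylow_of_le_normalizer S hQ (zpowers_le.2 hx) (mem_zpowers x)

end Setting

/-- Abelian subgroups of a Sylow 2-subgroup of equal order are fused by automorphisms stabilising it. -/
theorem Setting.exists_stab (hX : Setting X) (S : Sylow 2 X) {A B : Subgroup X}
    (hA : A ≤ (S : Subgroup X)) (hB : B ≤ (S : Subgroup X)) (h : Nat.card A = Nat.card B) :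
    ∃ e ∈ hX.Λ, (S : Subgroup X).map (e : MulAut X).toMonoidHom = S ∧
      A.map (e : MulAut X).toMonoidHom = B := by
  haveI : Fact (Nat.Prime 2) := ⟨Nat.prime_two⟩
  have hc : ∀ C : Subgroup X, C ≤ (S : Subgroup X) → IsMulCommutative C := fun C hC =>
    ⟨⟨fun x y => Subtype.ext (hX.comm S (hC x.2) (hC y.2))⟩⟩
  obtain ⟨e, he, hAB⟩ := hX.fuse A B (hc A hA) (hc B hB) h
  set T : Sylow 2 X := S.mapSurjective (f := (e : MulAut X).toMonoidHom) (e : MulAut X).surjective with hT
  have hT' : (T : Subgroup X) = (S : Subgroup X).map (e : MulAut X).toMonoidHom :=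
    Sylow.coe_mapSurjective _ _
  set C := centralizer (B : Set X) with hC
  have hSC : (S : Subgroup X) ≤ C := hX.le_centralizer S hB
  have hTC : (T : Subgroup X) ≤ C := by
    rw [hT', hC, ← hAB]
    rintro _ ⟨s, hs, rfl⟩
    refine mem_centralizer_iff.2 ?_
    rintro _ ⟨a, ha, rfl⟩
    rw [← map_mul, ← map_mul, hX.comm S (hA ha) hs]
  obtain ⟨c, hc'⟩ := MulAction.exists_smul_eq C (T.subtype hTC) (S.subtype hSC)
  have hconj : (T : Subgroup X).map (MulAut.conj (c : X)).toMonoidHom = S := by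
    have h1 := congrArg (fun P : Sylow 2 C => (P : Subgroup C).map C.subtype) hc'
    simp only [Sylow.coe_subtype, Sylow.coe_subgroup_smul] at h1
    rw [map_subgroupOf_eq_of_le hSC] at h1
    rw [← h1]
    ext x
    constructor
    · rintro ⟨y, hy, rfl⟩
      exact ⟨c * ⟨y, hTC hy⟩ * c⁻¹, smul_mem_pointwise_smul (⟨y, hTC hy⟩ : C) (MulAut.conj c) _ hy, rfl⟩
    · rintro ⟨_, ⟨y, hy, rfl⟩, rfl⟩
      exact ⟨y, hy, rfl⟩
  refine ⟨MulAut.conj (c : X) * e, mul_mem (hX.inn _) he, ?_, ?_⟩
  · rw [show (MulAut.conj (c : X) * e : MulAut X).toMonoidHom =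
      (MulAut.conj (c : X)).toMonoidHom.comp (e : MulAut X).toMonoidHom from rfl, ← map_map, ← hT', hconj]
  · rw [show (MulAut.conj (c : X) * e : MulAut X).toMonoidHom =
      (MulAut.conj (c : X)).toMonoidHom.comp (e : MulAut X).toMonoidHom from rfl, ← map_map, hAB]
    ext x
    have hcc : ∀ b ∈ B, (c : X) * b * (c : X)⁻¹ = b := fun b hb => by
      rw [← mem_centralizer_iff.1 c.2 b hb, mul_inv_cancel_right]
    constructor
    · rintro ⟨b, hb, rfl⟩
      show (c : X) * b * (c : X)⁻¹ ∈ B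
      rw [hcc b hb]; exact hb
    · exact fun hx => ⟨x, hx, hcc x hx⟩

/-- Transitivity on the involutions of the Sylow subgroup. -/
theorem Setting.exists_stab_invol (hX : Setting X) (S : Sylow 2 X) {u v : X}
    (hu : u ∈ (S : Subgroup X)) (hv : v ∈ (S : Subgroup X)) (hu1 : u ≠ 1) (hv1 : v ≠ 1) :
    ∃ e ∈ hX.Λ, (S : Subgroup X).map (e : MulAut X).toMonoidHom = S ∧ (e : MulAut X) u = v := by
  obtain ⟨e, he, heS, hAB⟩ := hX.exists_stab S (zpowers_le.2 hu) (zpowers_le.2 hv)
    (by rw [Nat.card_zpowers, Nat.card_zpowers, hX.invol_of_mem S hu hu1, hX.invol_of_mem S hv hv1])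
  refine ⟨e, he, heS, ?_⟩
  have hm : (e : MulAut X) u ∈ zpowers v := hAB ▸ mem_map_of_mem _ (mem_zpowers u)
  exact (eq_or_eq_of_mem_zpowers (hX.sq_one S hv) hm).resolve_left fun h =>
    hu1 (e.map_eq_one_iff.1 h)

/-- The elements of `Λ` stabilising `S`. -/
def stab (hX : Setting X) (S : Sylow 2 X) : Subgroup (MulAut X) where
  carrier := {e | e ∈ hX.Λ ∧ ∀ x, e x ∈ (S : Subgroup X) ↔ x ∈ (S : Subgroup X)}
  one_mem' := ⟨one_mem _, fun _ => Iff.rfl⟩
  mul_mem' := fun {a b} ha hb => ⟨mul_mem ha.1 hb.1, fun x => (ha.2 (b x)).trans (hb.2 x)⟩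
  inv_mem' := fun {a} ha => ⟨inv_mem ha.1, fun x => by
    have := ha.2 (a⁻¹ x)
    rwa [MulAut.apply_inv_self, iff_comm] at this⟩

theorem mem_stab {hX : Setting X} {S : Sylow 2 X} {e : MulAut X} (he : e ∈ hX.Λ)
    (h : (S : Subgroup X).map e.toMonoidHom = S) : e ∈ stab hX S := by
  refine ⟨he, fun x => ?_⟩
  conv_lhs => rw [← h]
  exact mem_map_iff_mem e.injective

/-- The action of the stabiliser on `S`. -/
def stabAct (hX : Setting X) (S : Sylow 2 X) : stab hX S →* MulAut (S : Subgroup X) where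
  toFun e :=
    { toFun := fun x => ⟨(e : MulAut X) x, (e.2.2 x).2 x.2⟩
      invFun := fun x => ⟨(e : MulAut X).symm x, (e.2.2 _).1 (by rw [MulEquiv.apply_symm_apply]; exact x.2)⟩
      left_inv := fun x => Subtype.ext ((e : MulAut X).symm_apply_apply x)
      right_inv := fun x => Subtype.ext ((e : MulAut X).apply_symm_apply x)
      map_mul' := fun x y => Subtype.ext (map_mul (e : MulAut X) (x : X) y) }
  map_one' := MulEquiv.ext fun _ => rfl
  map_mul' _ _ := MulEquiv.ext fun _ => rfl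

theorem stabAct_apply {hX : Setting X} {S : Sylow 2 X} (e : stab hX S) (x : (S : Subgroup X)) :
    (stabAct hX S e x : X) = (e : MulAut X) x := rfl

theorem odd_range_stabAct (hX : Setting X) (S : Sylow 2 X) :
    Odd (Nat.card (stabAct hX S).range) := by
  haveI : Fact (Nat.Prime 2) := ⟨Nat.prime_two⟩
  rw [← Nat.not_even_iff_odd]
  intro heven
  obtain ⟨⟨_, e, rfl⟩, hg⟩ := exists_prime_orderOf_dvd_card' (G := (stabAct hX S).range) 2
    heven.two_dvd
  rw [← Subgroup.orderOf_coe] at hg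
  set g := stabAct hX S e with hgdef
  replace hg : orderOf g = 2 := hg
  set m := (MulAut.conj : X →* MulAut X).range.relIndex hX.Λ with hm
  haveI : ((MulAut.conj : X →* MulAut X).range.subgroupOf hX.Λ).Normal := by
    refine ⟨fun n hn a => ?_⟩
    obtain ⟨x, hx⟩ := hn
    refine ⟨(a : MulAut X) x, MulEquiv.ext fun y => ?_⟩
    show (a : MulAut X) x * y * ((a : MulAut X) x)⁻¹ = (a : MulAut X) ((n : MulAut X) ((a : MulAut X)⁻¹ y))
    rw [show ((n : MulAut X)) = MulAut.conj x from hx.symm]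
    show _ = (a : MulAut X) (x * ((a : MulAut X)⁻¹ y) * x⁻¹)
    rw [map_mul, map_mul, map_inv, MulAut.apply_inv_self]
  obtain ⟨x, hx⟩ : ∃ x : X, MulAut.conj x = ((e : MulAut X)) ^ m :=
    pow_index_mem ((MulAut.conj : X →* MulAut X).range.subgroupOf hX.Λ) (⟨e, e.2.1⟩ : hX.Λ)
  obtain ⟨a, b, hb, hab⟩ := Nat.exists_eq_two_pow_mul_odd (orderOf_pos x).ne'
  have hodd : ∀ j : ℕ, Odd j → g ^ j = g := fun j hj => by
    obtain ⟨i, rfl⟩ := hj
    have h2 : g ^ 2 = 1 := (congrArg (g ^ ·) hg).symm.trans (pow_orderOf_eq_one g)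
    rw [pow_succ, pow_mul, h2, one_pow, one_mul]
  have heq : ((e : MulAut X) ^ m) ^ b = MulAut.conj (x ^ b) := by rw [map_pow, hx]
  have hxb : x ^ b ∈ (S : Subgroup X) := by
    refine hX.mem_of_normalizes S (k := a) ?_ ?_
    · rw [← pow_mul, mul_comm, ← hab, pow_orderOf_eq_one]
    · refine mem_normalizer_iff.2 fun y => ?_
      have := ((e ^ m) ^ b).2.2 y
      rw [SubmonoidClass.coe_pow, SubmonoidClass.coe_pow, heq] at this
      exact this.symm
  have h1 : g = 1 := by
    rw [← hodd (m * b) (hX.odd_index.mul hb), hgdef, ← map_pow, pow_mul]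
    refine MulEquiv.ext fun y => Subtype.ext ?_
    rw [stabAct_apply, SubmonoidClass.coe_pow, SubmonoidClass.coe_pow, heq]
    show x ^ b * y * (x ^ b)⁻¹ = y
    rw [hX.comm S hxb y.2, mul_inv_cancel_right]
  rw [h1, orderOf_one] at hg
  omega

open scoped IsMulCommutative in
/-- The rank of the Sylow subgroup is 2, 3 or 5. -/
theorem Setting.rank_cases (hX : Setting X) (S : Sylow 2 X) {n : ℕ} (hn : 2 ≤ n)
    (hcard : Nat.card (S : Subgroup X) = 2 ^ n) : n = 2 ∨ n = 3 ∨ n = 5 := by
  classical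
  haveI : IsMulCommutative (S : Subgroup X) := hX.isMulCommutative S
  set E := (S : Subgroup X) with hE
  set M := (stabAct hX S).range with hM
  have hexp : ∀ v : E, v * v = 1 := fun v => Subtype.ext (hX.sq_one S v.2)
  have htrans : ∀ t v : E, t ≠ 1 → v ≠ 1 → ∃ g : M, (g : MulAut E) t = v := by
    intro t v ht hv
    obtain ⟨e, he, heS, hev⟩ := hX.exists_stab_invol S t.2 v.2
      (fun h => ht (Subtype.ext h)) (fun h => hv (Subtype.ext h))
    exact ⟨⟨_, ⟨e, mem_stab he heS⟩, rfl⟩, Subtype.ext hev⟩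
  obtain ⟨t₀, ht₀⟩ : ∃ t : E, t ≠ 1 := by
    haveI : Nontrivial E := Finite.one_lt_card_iff_nontrivial.1
      (hcard ▸ Nat.one_lt_two_pow (by omega))
    exact exists_ne 1
  obtain ⟨Sl⟩ := Bender.OddQuot.exists_semilin (odd_range_stabAct hX S) hexp M.subtype ht₀
    (fun v hv => htrans t₀ v ht₀ hv)
  haveI : Fact (Nat.Prime 2) := ⟨Nat.prime_two⟩
  haveI : FiniteDimensional (ZMod 2) Sl.F := Module.Finite.of_finite
  have hfin : Module.finrank (ZMod 2) Sl.F = n :=
    Nat.pow_right_injective le_rfl (Sl.card_eq.symm.trans hcard)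
  set m := Nat.card Sl.gal.range with hm
  have hmn : m ∣ n := by
    rw [← hfin, ← IsGalois.card_aut_eq_finrank (ZMod 2) Sl.F]
    exact Subgroup.card_subgroup_dvd_card _
  have hmodd : Odd m := (odd_range_stabAct hX S).of_dvd_nat (Subgroup.card_range_dvd Sl.gal)
  have hMle : Nat.card M ≤ (2 ^ n - 1) * m := by
    have hinj : Function.Injective
        fun g : M => ((⟨Sl.mult g, Sl.mult_ne_zero ht₀ g⟩ : {x : Sl.F // x ≠ 0}),
          (⟨Sl.gal g, ⟨g, rfl⟩⟩ : Sl.gal.range)) := by
      intro g h hgh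
      have hm1 : Sl.mult g = Sl.mult h := congrArg (fun z => z.1.1) hgh
      have hg1 : Sl.gal g = Sl.gal h := congrArg (fun z => z.2.1) hgh
      refine Subtype.ext (MulEquiv.ext fun v => ?_)
      have h1 := Sl.apply g v
      have h2 := Sl.apply h v
      rw [hm1, hg1] at h1
      exact congrArg Additive.toMul (Sl.e.injective (h1.trans h2.symm))
    refine (Nat.card_le_card_of_injective _ hinj).trans (le_of_eq ?_)
    rw [Nat.card_prod, hm]
    congr 1
    haveI := Fintype.ofFinite Sl.F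
    rw [Nat.card_eq_fintype_card, Fintype.card_subtype_compl, Fintype.card_subtype_eq,
      ← Nat.card_eq_fintype_card, ← Nat.card_congr (Additive.ofMul.trans Sl.e.toEquiv), hcard]
  have hcount : (2 ^ n - 1) * (2 ^ n - 2) ≤ Nat.card M * 6 := by
    let P := {p : E × E // p.1 ≠ 1 ∧ p.2 ≠ 1 ∧ p.1 ≠ p.2}
    have hP : Nat.card P = (2 ^ n - 1) * (2 ^ n - 2) := by
      let eq1 : P ≃ Σ a : {a : E // a ≠ 1}, {b : {b : E // b ≠ 1} // b ≠ a} :=
        { toFun := fun p => ⟨⟨p.1.1, p.2.1⟩, ⟨⟨p.1.2, p.2.2.1⟩, fun h => p.2.2.2 (congrArg Subtype.val h).symm⟩⟩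
          invFun := fun p => ⟨(p.1.1, p.2.1.1), p.1.2, p.2.1.2, fun h => p.2.2 (Subtype.ext h.symm)⟩
          left_inv := fun _ => rfl
          right_inv := fun _ => rfl }
      haveI := Fintype.ofFinite E
      have hE : Fintype.card E = 2 ^ n := by rw [← Nat.card_eq_fintype_card]; exact hcard
      rw [Nat.card_congr eq1, Nat.card_eq_fintype_card, Fintype.card_sigma]
      simp only [Fintype.card_subtype_compl, Fintype.card_subtype_eq, hE, Finset.sum_const,
        Finset.card_univ, smul_eq_mul]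
      congr 1
    obtain ⟨b₀, hb₀, hb₀t⟩ : ∃ b : E, b ≠ 1 ∧ b ≠ t₀ := by
      by_contra h
      push Not at h
      have : Nat.card E ≤ 2 := by
        refine (Nat.card_le_card_of_injective (fun x => decide (x = 1)) ?_).trans (by simp)
        intro x y hxy
        by_cases hx : x = 1 <;> by_cases hy : y = 1
        · rw [hx, hy]
        · simp [hx, hy] at hxy
        · simp [hx, hy] at hxy
        · rw [h x hx, h y hy]
      rw [hcard] at this
      have := Nat.pow_le_pow_right (show 1 ≤ 2 by norm_num) hn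
      omega
    set V : Subgroup X := closure ({(t₀ : X), (b₀ : X)} : Set X) with hV
    have hklein : ∀ a b : E, a ≠ 1 → b ≠ 1 → a ≠ b →
        IsKleinFour (closure ({(a : X), (b : X)} : Set X)) := fun a b ha hb hab =>
      Invol.isKleinFour_closure_pair (hX.invol_of_mem S a.2 fun h => ha (Subtype.ext h))
        (hX.invol_of_mem S b.2 fun h => hb (Subtype.ext h)) (fun h => hab (Subtype.ext h))
        (hX.comm S a.2 b.2)
    haveI hVk := hklein t₀ b₀ ht₀ hb₀ hb₀t.symm
    let Q := {p : V × V // p.1 ≠ 1 ∧ p.2 ≠ 1 ∧ p.1 ≠ p.2}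
    have hQ : Nat.card Q = 6 := by
      let eq1 : Q ≃ Σ a : {a : V // a ≠ 1}, {b : {b : V // b ≠ 1} // b ≠ a} :=
        { toFun := fun p => ⟨⟨p.1.1, p.2.1⟩, ⟨⟨p.1.2, p.2.2.1⟩, fun h => p.2.2.2 (congrArg Subtype.val h).symm⟩⟩
          invFun := fun p => ⟨(p.1.1, p.2.1.1), p.1.2, p.2.1.2, fun h => p.2.2 (Subtype.ext h.symm)⟩
          left_inv := fun _ => rfl
          right_inv := fun _ => rfl }
      haveI := Fintype.ofFinite V
      have hE : Fintype.card V = 4 := by rw [← Nat.card_eq_fintype_card]; exact hVk.card_four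
      rw [Nat.card_congr eq1, Nat.card_eq_fintype_card, Fintype.card_sigma]
      simp only [Fintype.card_subtype_compl, Fintype.card_subtype_eq, hE, Finset.sum_const,
        Finset.card_univ, smul_eq_mul]
    have hVS : V ≤ (S : Subgroup X) := by
      rw [hV, closure_le]
      rintro _ (rfl | rfl)
      exacts [t₀.2, b₀.2]
    let f : M × Q → P := fun p =>
      ⟨((p.1 : MulAut E) ⟨p.2.1.1, hVS p.2.1.1.2⟩, (p.1 : MulAut E) ⟨p.2.1.2, hVS p.2.1.2.2⟩),
        fun h => p.2.2.1 (Subtype.ext (congrArg Subtype.val ((p.1 : MulAut E).map_eq_one_iff.1 h) :)),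
        fun h => p.2.2.2.1 (Subtype.ext (congrArg Subtype.val ((p.1 : MulAut E).map_eq_one_iff.1 h) :)),
        fun h => p.2.2.2.2 (Subtype.ext (congrArg Subtype.val ((p.1 : MulAut E).injective h) :))⟩
    have hf : Function.Surjective f := by
      rintro ⟨⟨a, b⟩, ha, hb, hab⟩
      have hW := hklein a b ha hb hab
      have hWS : closure ({(a : X), (b : X)} : Set X) ≤ (S : Subgroup X) := by
        rw [closure_le]
        rintro _ (rfl | rfl)
        exacts [a.2, b.2]
      obtain ⟨e, he, heS, hev⟩ := hX.exists_stab S hVS hWS (hVk.card_four.trans hW.card_four.symm)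
      obtain ⟨v, hv, hva⟩ : (a : X) ∈ V.map (e : MulAut X).toMonoidHom :=
        hev ▸ subset_closure (Set.mem_insert _ _)
      obtain ⟨w, hw, hwb⟩ : (b : X) ∈ V.map (e : MulAut X).toMonoidHom :=
        hev ▸ subset_closure (Set.mem_insert_of_mem _ rfl)
      refine ⟨(⟨_, ⟨e, mem_stab he heS⟩, rfl⟩, ⟨(⟨v, hv⟩, ⟨w, hw⟩), fun h => ?_, fun h => ?_,
        fun h => ?_⟩), Subtype.ext (Prod.ext (Subtype.ext hva) (Subtype.ext hwb))⟩
      · refine ha (Subtype.ext ?_)
        rw [← hva, show v = 1 from congrArg Subtype.val h, map_one]; rfl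
      · refine hb (Subtype.ext ?_)
        rw [← hwb, show w = 1 from congrArg Subtype.val h, map_one]; rfl
      · refine hab (Subtype.ext ?_)
        rw [← hva, ← hwb, show v = w from congrArg Subtype.val h]
    have := Nat.card_le_card_of_surjective f hf
    rwa [Nat.card_prod, hP, hQ] at this
  have key : 2 ^ n - 2 ≤ 6 * m := by
    have h2 : 2 ≤ 2 ^ n := Nat.le_self_pow (by omega) 2
    refine Nat.le_of_mul_le_mul_left (hcount.trans ?_) (show 0 < 2 ^ n - 1 by omega)
    calc Nat.card M * 6 ≤ (2 ^ n - 1) * m * 6 := Nat.mul_le_mul_right 6 hMle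
      _ = (2 ^ n - 1) * (6 * m) := by ring
  have hmle : m ≤ n := Nat.le_of_dvd (by omega) hmn
  have hn6 : n ≤ 5 := by
    by_contra h
    have : 6 * n + 2 < 2 ^ n := by
      have h6 : 6 ≤ n := by omega
      clear * - h6
      induction n, h6 using Nat.le_induction with
      | base => norm_num
      | succ k hk ih => rw [pow_succ]; omega
    omega
  rcases (show n = 2 ∨ n = 3 ∨ n = 4 ∨ n = 5 by omega) with h | h | rfl | h
  · exact Or.inl h
  · exact Or.inr (Or.inl h)
  · exfalso
    norm_num at key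
    obtain ⟨j, hj⟩ := hmodd
    have : m = 1 := by
      rcases (show m = 1 ∨ m = 3 by omega) with h | h
      · exact h
      · rw [h] at hmn; norm_num at hmn
    omega
  · exact Or.inr (Or.inr h)

open scoped IsMulCommutative in
/-- In rank 5 the automorphisms fixing an involution `t` induce at most five maps on the Sylow subgroup,
all nontrivial ones of order five and fixing only `t`. -/
theorem Setting.five_stab (hX : Setting X) (S : Sylow 2 X)
    (hcard : Nat.card (S : Subgroup X) = 2 ^ 5) {t : X} (ht : t ∈ (S : Subgroup X)) (ht1 : t ≠ 1) :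
    (∀ e ∈ hX.Λ, (S : Subgroup X).map (e : MulAut X).toMonoidHom = S → (e : MulAut X) t = t →
      ((∀ s ∈ (S : Subgroup X), (e : MulAut X) s = s) ∨
        ∀ s ∈ (S : Subgroup X), (e : MulAut X) s = s → s = 1 ∨ s = t) ∧
      ∀ s ∈ (S : Subgroup X), ((e : MulAut X) ^ 5) s = s) ∧
    ∀ s ∈ (S : Subgroup X), ∃ Z : Finset X, Z.card ≤ 5 ∧
      ∀ e ∈ hX.Λ, (S : Subgroup X).map (e : MulAut X).toMonoidHom = S → (e : MulAut X) t = t →
        (e : MulAut X) s ∈ Z := by
  classical
  haveI : IsMulCommutative (S : Subgroup X) := hX.isMulCommutative S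
  haveI : Fact (Nat.Prime 2) := ⟨Nat.prime_two⟩
  set E := (S : Subgroup X) with hE
  set M := (stabAct hX S).range with hM
  set T : E := ⟨t, ht⟩ with hTdef
  have hT1 : T ≠ 1 := fun h => ht1 (congrArg Subtype.val h)
  have htrans : ∀ v : E, v ≠ 1 → ∃ g : M, M.subtype g T = v := by
    intro v hv
    obtain ⟨e, he, heS, hev⟩ := hX.exists_stab_invol S ht v.2 ht1 (fun h => hv (Subtype.ext h))
    exact ⟨⟨_, ⟨e, mem_stab he heS⟩, rfl⟩, Subtype.ext hev⟩
  obtain ⟨Sl⟩ := Bender.OddQuot.exists_semilin (odd_range_stabAct hX S)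
    (fun v : E => Subtype.ext (hX.sq_one S v.2)) M.subtype hT1 htrans
  haveI : FiniteDimensional (ZMod 2) Sl.F := Module.Finite.of_finite
  have hfin : Module.finrank (ZMod 2) Sl.F = 5 :=
    Nat.pow_right_injective le_rfl (Sl.card_eq.symm.trans hcard)
  have hgal5 : Nat.card (Sl.F ≃ₐ[ZMod 2] Sl.F) = 5 :=
    (IsGalois.card_aut_eq_finrank (ZMod 2) Sl.F).trans hfin
  set Mt := MulAction.stabilizer M T with hMt
  have hgt : ∀ g : Mt, M.subtype g T = T := fun g => g.2
  have hinj : Function.Injective (Sl.gal.comp Mt.subtype) := by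
    rw [injective_iff_map_eq_one]
    exact fun g hg => Subtype.ext (Subtype.ext (Sl.act_eq_one (hgt g) hg))
  have hMt5 : Nat.card Mt ≤ 5 := (Nat.card_le_card_of_injective _ hinj).trans hgal5.le
  have key : ∀ e (he : e ∈ hX.Λ) (heS : E.map (e : MulAut X).toMonoidHom = E), (e : MulAut X) t = t →
      (⟨stabAct hX S ⟨e, mem_stab he heS⟩, ⟨_, rfl⟩⟩ : M) ∈ Mt :=
    fun e he heS het => Subtype.ext het
  refine ⟨fun e he heS het => ?_, fun s hs => ?_⟩
  · set g : Mt := ⟨_, key e he heS het⟩ with hg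
    have hg5 : g ^ 5 = 1 := hinj (by
      rw [map_pow, map_one, ← hgal5]
      exact pow_card_eq_one')
    refine ⟨?_, fun s hs => ?_⟩
    · by_cases hg1 : g = 1
      · exact Or.inl fun s hs => congrArg (fun z : Mt => ((z.1.1 ⟨s, hs⟩ : E) : X)) hg1
      right
      intro s hs hes
      by_contra hne
      push Not at hne
      have hord : orderOf (Sl.gal g.1) = 5 := by
        have h1 : orderOf (Sl.gal g.1) ∣ 5 := hgal5 ▸ orderOf_dvd_natCard _
        exact ((Nat.dvd_prime (by norm_num)).1 h1).resolve_left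
          fun h => hg1 (hinj ((orderOf_eq_one_iff.1 h).trans (map_one _).symm))
      have hfixT : ∀ β ∈ zpowers g.1, M.subtype β T = T := by
        intro β hβ
        obtain ⟨i, rfl⟩ := mem_zpowers_iff.1 hβ
        rw [← SubgroupClass.coe_zpow g i]
        exact hgt (g ^ i)
      have hfix : ∀ β ∈ zpowers g.1, M.subtype β ⟨s, hs⟩ = ⟨s, hs⟩ := by
        intro β hβ
        obtain ⟨i, rfl⟩ := mem_zpowers_iff.1 hβ
        rw [map_zpow]
        have h0 : M.subtype g.1 ∈ MulAction.stabilizer (MulAut E) (⟨s, hs⟩ : E) := Subtype.ext hes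
        exact zpow_mem h0 i
      obtain ⟨j, hj, hjn⟩ := Sl.card_fixed (zpowers g.1) hfixT
      rw [MonoidHom.map_zpowers, Nat.card_zpowers, hord, hfin] at hjn
      have hj1 : j = 1 := by omega
      subst hj1
      have h3 : 3 ≤ Nat.card {v : E // ∀ β ∈ zpowers g.1, M.subtype β v = v} := by
        let f : Fin 3 → {v : E // ∀ β ∈ zpowers g.1, M.subtype β v = v} :=
          ![⟨1, fun β _ => map_one _⟩, ⟨T, hfixT⟩, ⟨⟨s, hs⟩, hfix⟩]
        have hf : Function.Injective f := by
          intro a b hab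
          have hab' := congrArg (fun z : {v : E // ∀ β ∈ zpowers g.1, M.subtype β v = v} => (z.1 : X)) hab
          fin_cases a <;> fin_cases b <;> first | rfl | (exfalso; simp [f, T] at hab')
          all_goals first | exact ht1 hab'.symm | exact ht1 hab' | exact hne.1 hab'.symm |
            exact hne.1 hab' | exact hne.2 hab'.symm | exact hne.2 hab'
        simpa using Nat.card_le_card_of_injective f hf
      rw [hj] at h3
      norm_num at h3
    · have h := congrArg (fun z : Mt => ((z.1.1 ⟨s, hs⟩ : E) : X)) hg5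
      simp only [SubmonoidClass.coe_pow, hg, ← map_pow, stabAct_apply] at h
      exact h
  · haveI := Fintype.ofFinite Mt
    refine ⟨(Finset.univ : Finset Mt).image (fun z => ((z.1.1 ⟨s, hs⟩ : E) : X)),
      Finset.card_image_le.trans (by rw [Finset.card_univ, ← Nat.card_eq_fintype_card]; exact hMt5),
      fun e he heS het => Finset.mem_image.2 ⟨_, Finset.mem_univ ⟨_, key e he heS het⟩, rfl⟩⟩

end CfsgLib.BGroup
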