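import Cfsg.Agent.S0483
import Cfsg.Agent.Lib.Classical.ProjLine
import Cfsg.Agent.Lib.Invol.BGroupSubgroups
import Cfsg.Agent.Lib.SU.UnitalModel

/-!
# Perfect groups with a four group as Sylow 2-subgroup
-/

set_option autoImplicit false
set_option linter.style.haveILetI false
set_option linter.unusedSectionVars false

namespace CfsgLib.BGroup

open Subgroup

universe u

theorem isKleinFour_of {X : Type u} [Group X] {V : Subgroup X} (h4 : Nat.card V = 4)
    (hexp : ∀ x ∈ V, x * x = 1) : IsKleinFour V := by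
  refine ⟨h4, ?_⟩
  have h1 : Monoid.exponent V ∣ 2 := Monoid.exponent_dvd_of_forall_pow_eq_one fun x =>
    Subtype.ext (by rw [SubmonoidClass.coe_pow, sq]; exact hexp x x.2)
  refine ((Nat.dvd_prime Nat.prime_two).1 h1).resolve_left fun h => ?_
  haveI := Monoid.exp_eq_one_iff.1 h
  rw [Nat.card_of_subsingleton (1 : V)] at h4
  omega

/-- A perfect group with a four group as Sylow 2-subgroup is `PSL(2, q)`, `q ≡ 3, 5 (mod 8)`, modulo the
odd core. -/
theorem psl_of_perfect_four {X : Type u} [Group X] [Finite X] [Group.IsPerfect X] (S : Sylow 2 X)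
    (h4 : Nat.card (S : Subgroup X) = 4) (hexp : ∀ x ∈ (S : Subgroup X), x * x = 1) :
    ∃ (F : Type) (_ : Field F) (_ : Fintype F), 5 ≤ Fintype.card F ∧
      (Fintype.card F % 8 = 3 ∨ Fintype.card F % 8 = 5) ∧
      Nonempty (X ⧸ Cfsg.oddCore X ≃* Matrix.ProjectiveSpecialLinearGroup (Fin 2) F) := by
  haveI : Fact (Nat.Prime 2) := ⟨Nat.prime_two⟩
  haveI := isKleinFour_of h4 hexp
  obtain ⟨ed⟩ := IsKleinFour.nonempty_mulEquiv (G₁ := ↥(S : Subgroup X)) (G₂ := DihedralGroup 2)
  haveI := Coprime.pPrimeCore_characteristic (G := X) 2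
  set T : Sylow 2 (X ⧸ Cfsg.oddCore X) :=
    S.mapSurjective (QuotientGroup.mk'_surjective (Cfsg.oddCore X)) with hT
  have hT4 : Nat.card (T : Subgroup (X ⧸ Cfsg.oddCore X)) = 4 := by
    have h1 := Invol.card_map_mk (Cfsg.oddCore X) (S : Subgroup X)
    have h2 : (S : Subgroup X) ⊓ Cfsg.oddCore X = ⊥ := by
      refine inf_eq_bot_of_coprime ?_
      rw [h4, show (4 : ℕ) = 2 ^ 2 by norm_num]
      exact Nat.Coprime.pow_left 2
        (Nat.prime_two.coprime_iff_not_dvd.2 (Coprime.pPrimeCore_not_dvd Nat.prime_two))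
    rw [h2, Subgroup.card_bot, mul_one, h4] at h1
    exact h1.symm
  rcases Cfsg.Agent.S0483.result S 2 le_rfl ⟨ed⟩ with ⟨F, i1, i2, hodd, h3, ⟨e⟩⟩ | ⟨⟨e⟩⟩
  · have h := Classical.card_psl2 (F := F)
    set q := Fintype.card F with hq
    obtain ⟨j, hj⟩ := hodd
    rw [show Nat.gcd 2 (q - 1) = 2 from Nat.gcd_eq_left (by omega), ← Nat.card_congr e.toEquiv] at h
    have h8 : 8 * (T : Subgroup (X ⧸ Cfsg.oddCore X)).index = q * ((q - 1) * (q + 1)) := by
      rw [← h, ← (T : Subgroup (X ⧸ Cfsg.oddCore X)).card_mul_index, hT4]; ring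
    have hmod : q % 8 = 3 ∨ q % 8 = 5 := by
      obtain ⟨a, b, hb, hab⟩ : ∃ a b : ℕ, b < 4 ∧ j = 4 * a + b :=
        ⟨j / 4, j % 4, Nat.mod_lt _ (by norm_num), (Nat.div_add_mod j 4).symm⟩
      have hi : Odd (T : Subgroup (X ⧸ Cfsg.oddCore X)).index := by
        rw [← Nat.not_even_iff_odd, even_iff_two_dvd]; exact T.not_dvd_index
      obtain ⟨k, hk⟩ := hi
      have hq1 : q = 8 * a + 2 * b + 1 := by omega
      rw [hk, hq1, show 8 * a + 2 * b + 1 - 1 = 8 * a + 2 * b by omega] at h8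
      interval_cases b
      · exfalso
        have : 8 * (2 * k + 1) = 16 * (a * (4 * a + 1) * (8 * a + 1)) := by rw [h8]; ring
        omega
      · left; omega
      · right; omega
      · exfalso
        have : 8 * (2 * k + 1) = 16 * ((4 * a + 3) * (a + 1) * (8 * a + 7)) := by rw [h8]; ring
        omega
    exact ⟨F, i1, i2, by omega, hmod, ⟨e⟩⟩
  · exfalso
    have hc : Nat.card (X ⧸ Cfsg.oddCore X) = 2 ^ 3 * 315 := by
      rw [Nat.card_congr e.toEquiv, Nat.card_eq_fintype_card]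
      have h := two_mul_card_alternatingGroup (α := Fin 7)
      rw [Fintype.card_perm, Fintype.card_fin] at h
      norm_num [Nat.factorial] at h ⊢
      omega
    have := SU.card_sylow_two hc (by decide) T
    omega

end CfsgLib.BGroup
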